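import Mathlib
import Groth.Prelude.Def_CAlg
import Groth.Agent.Lib.Helper8.Depth19

/-!
# Artinian rings are Cohen–Macaulay (helper6)
-/

open scoped Classical
set_option linter.unusedSectionVars false
set_option autoImplicit false

universe u

noncomputable section

namespace Groth.Agent.Lib.Helper6.GrCM

open LocCoh Groth.Agent.Helper8.Depth

theorem isCohenMacaulayRing_of_isArtinianRing (R : Type u) [CommRing R] [IsArtinianRing R] :
    IsCohenMacaulayRing R := by
  rw [isCohenMacaulayRing_iff_idealDepth_eq_height]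
  intro a ha
  -- height zero
  have hht : a.height = 0 := by
    obtain ⟨m, hm, ham⟩ := Ideal.exists_le_maximal a ha
    have hmin : m ∈ minimalPrimes R := by
      rw [minimalPrimes_eq_minimals]
      refine ⟨hm.isPrime, fun q hq hqm => ?_⟩
      haveI := hq
      have : q.IsMaximal := IsArtinianRing.isMaximal_of_isPrime q
      exact le_of_eq (this.eq_of_le hm.ne_top hqm).symm
    have h0 : m.height = 0 := by
      haveI := hm.isPrime
      rw [Ideal.height_eq_zero_iff]
      exact hmin
    exact le_antisymm (h0 ▸ Ideal.height_mono ham) bot_le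
  rw [hht]
  have hsm : a • (⊤ : Submodule R R) ≠ ⊤ := by
    rw [smul_eq_mul, Ideal.mul_top]
    exact ha
  apply le_antisymm _ bot_le
  by_contra hcon
  push Not at hcon
  have h1 : ((1 : ℕ) : ℕ∞) ≤ idealDepth a R := by
    exact_mod_cast Order.one_le_iff_pos.mpr hcon
  obtain ⟨rs, hlen, hreg, hmem⟩ := (le_idealDepth_iff hsm 1).mp h1
  obtain ⟨x, rfl⟩ : ∃ x, rs = [x] := List.length_eq_one_iff.mp hlen
  have hx : IsSMulRegular R x := ((RingTheory.Sequence.isWeaklyRegular_cons_iff R x []).mp hreg).1
  have hxa : x ∈ a := hmem x (by simp)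
  have hnzd : x ∈ nonZeroDivisors R := by
    rw [mem_nonZeroDivisors_iff_right]
    intro y hy
    apply hx
    show x • y = x • (0 : R)
    rw [smul_zero, smul_eq_mul, mul_comm]
    exact hy
  have hunit : IsUnit x := IsArtinianRing.isUnit_of_mem_nonZeroDivisors hnzd
  exact ha (Ideal.eq_top_of_isUnit_mem a hxa hunit)

end Groth.Agent.Lib.Helper6.GrCM

end
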