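import Mathlib
import Groth.Prelude.Def_CAlg
import Groth.Agent.Lib.Helper8.Depth6

/-!
# Homogeneous ideals of polynomial rings: linear regular elements (helper6)
-/

open scoped Classical
set_option linter.unusedSectionVars false
set_option autoImplicit false

universe u

noncomputable section

namespace Groth.Agent.Lib.Helper6.GrCM

open MvPolynomial LocCoh Groth.Agent.Helper8.Depth
open scoped Pointwise

variable {σ : Type} [Finite σ] {K : Type u} [Field K]

/-- The irrelevant ideal of a polynomial ring. -/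
def irr (σ : Type) (K : Type u) [Field K] : Ideal (MvPolynomial σ K) :=
  RingHom.ker (constantCoeff (R := K) (σ := σ))

omit [Finite σ] in
lemma mem_irr {f : MvPolynomial σ K} : f ∈ irr σ K ↔ coeff 0 f = 0 := by
  unfold irr
  rw [RingHom.mem_ker, constantCoeff_eq]

omit [Finite σ] in
lemma irr_eq_span : irr σ K = Ideal.span (Set.range (X : σ → MvPolynomial σ K)) := by
  apply le_antisymm
  · intro f hf
    rw [mem_irr] at hf
    have : f ∈ idealOfVars σ K ^ 1 := by
      rw [mem_pow_idealOfVars_iff']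
      intro x hx
      have hx0 : x = 0 := by
        have : Finsupp.degree x = 0 := by omega
        exact (Finsupp.degree_eq_zero_iff x).mp this
      rw [hx0]
      exact hf
    rwa [pow_one] at this
  · rw [Ideal.span_le]
    rintro _ ⟨i, rfl⟩
    rw [SetLike.mem_coe, mem_irr, coeff_zero_X]

omit [Finite σ] in
lemma irr_ne_top : irr σ K ≠ ⊤ := by
  intro h
  have : (1 : MvPolynomial σ K) ∈ irr σ K := by rw [h]; trivial
  rw [mem_irr] at this
  simp at this

omit [Finite σ] in
lemma mem_irr_of_isHomogeneous {ℓ : MvPolynomial σ K} {k : ℕ} (hk : 0 < k) (h : ℓ.IsHomogeneous k) :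
    ℓ ∈ irr σ K := by
  rw [mem_irr]
  by_contra hc
  have := h hc
  simp at this
  omega

/-- Homogeneous ideals: closed under taking homogeneous components. -/
def HomI (I : Ideal (MvPolynomial σ K)) : Prop := ∀ f ∈ I, ∀ n, homogeneousComponent n f ∈ I

section
attribute [local instance] MvPolynomial.gradedAlgebra

omit [Finite σ] in
lemma homI_of_isHomogeneous {I : Ideal (MvPolynomial σ K)}
    (h : I.IsHomogeneous (homogeneousSubmodule σ K)) : HomI I :=
  fun _ hf n => homogeneousComponent_mem_of_mem h hf n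

omit [Finite σ] in
lemma homI_span (T : Set (MvPolynomial σ K)) (hT : ∀ f ∈ T, ∃ k, f.IsHomogeneous k) :
    HomI (Ideal.span T) := by
  apply homI_of_isHomogeneous
  apply Ideal.homogeneous_span
  intro x hx
  obtain ⟨k, hk⟩ := hT x hx
  exact ⟨k, hk⟩

end

omit [Finite σ] in
lemma HomI.sup {I J : Ideal (MvPolynomial σ K)} (hI : HomI I) (hJ : HomI J) : HomI (I ⊔ J) := by
  intro f hf n
  obtain ⟨a, ha, b, hb, rfl⟩ := Submodule.mem_sup.mp hf
  rw [map_add]
  exact Submodule.add_mem_sup (hI a ha n) (hJ b hb n)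

omit [Finite σ] in
lemma HomI.inf {I J : Ideal (MvPolynomial σ K)} (hI : HomI I) (hJ : HomI J) : HomI (I ⊓ J) := by
  intro f hf n
  exact ⟨hI f hf.1 n, hJ f hf.2 n⟩

omit [Finite σ] in
lemma HomI.iInf {ι : Sort*} {I : ι → Ideal (MvPolynomial σ K)} (h : ∀ i, HomI (I i)) :
    HomI (⨅ i, I i) := by
  intro f hf n
  rw [Ideal.mem_iInf] at hf ⊢
  exact fun i => h i f (hf i) n

omit [Finite σ] in
lemma HomI.top : HomI (⊤ : Ideal (MvPolynomial σ K)) := fun _ _ _ => trivial

omit [Finite σ] in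
lemma HomI.le_irr {I : Ideal (MvPolynomial σ K)} (hI : HomI I) (hne : I ≠ ⊤) : I ≤ irr σ K := by
  intro f hf
  rw [mem_irr]
  by_contra hc
  apply hne
  rw [Ideal.eq_top_iff_one]
  have h0 := hI f hf 0
  rw [homogeneousComponent_zero] at h0
  have : (C (coeff 0 f) : MvPolynomial σ K) * C (coeff 0 f)⁻¹ = 1 := by
    rw [← C_mul, mul_inv_cancel₀ hc, C_1]
  rw [← this]
  exact Ideal.mul_mem_right _ _ h0

omit [Finite σ] in
/-- Regularity on the quotient, unfolded. -/
lemma mem_of_mul_mem {I : Ideal (MvPolynomial σ K)} {ℓ : MvPolynomial σ K}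
    (hreg : IsSMulRegular (MvPolynomial σ K ⧸ I) ℓ) (s : MvPolynomial σ K) (h : ℓ * s ∈ I) :
    s ∈ I := by
  rw [← Ideal.Quotient.eq_zero_iff_mem] at h ⊢
  apply hreg
  show ℓ • Ideal.Quotient.mk I s = ℓ • (0 : MvPolynomial σ K ⧸ I)
  rw [smul_zero]
  have : ℓ • Ideal.Quotient.mk I s = Ideal.Quotient.mk I (ℓ * s) := rfl
  rw [this, h]

omit [Finite σ] in
lemma smul_top_ne_top {I : Ideal (MvPolynomial σ K)} (hle : I ≤ irr σ K) :
    irr σ K • (⊤ : Submodule (MvPolynomial σ K) (MvPolynomial σ K ⧸ I)) ≠ ⊤ := by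
  intro h
  let g : (MvPolynomial σ K ⧸ I) →ₗ[MvPolynomial σ K] (MvPolynomial σ K ⧸ irr σ K) :=
    Submodule.mapQ I (irr σ K) LinearMap.id hle
  have hker : irr σ K • (⊤ : Submodule (MvPolynomial σ K) (MvPolynomial σ K ⧸ I)) ≤
      LinearMap.ker g := by
    rw [Submodule.smul_le]
    intro r hr x _
    rw [LinearMap.mem_ker, map_smul]
    obtain ⟨y, hy⟩ := Submodule.Quotient.mk_surjective _ (g x)
    rw [← hy, ← Submodule.Quotient.mk_smul, Submodule.Quotient.mk_eq_zero]
    exact Ideal.mul_mem_right _ _ hr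
  rw [h] at hker
  have h1 : g (Submodule.Quotient.mk 1) = 0 := hker trivial
  have h2 : g (Submodule.Quotient.mk 1) = Submodule.Quotient.mk 1 := rfl
  rw [h2, Submodule.Quotient.mk_eq_zero] at h1
  exact irr_ne_top ((Ideal.eq_top_iff_one _).mpr h1)

/-- Quotient of `S ⧸ I` by a further element. -/
def quotEquiv (I : Ideal (MvPolynomial σ K)) (ℓ : MvPolynomial σ K) :
    QuotSMulTop ℓ (MvPolynomial σ K ⧸ I) ≃ₗ[MvPolynomial σ K]
      (MvPolynomial σ K ⧸ (I ⊔ Ideal.span {ℓ})) := by
  let g : (MvPolynomial σ K ⧸ I) →ₗ[MvPolynomial σ K] (MvPolynomial σ K ⧸ (I ⊔ Ideal.span {ℓ})) :=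
    Submodule.mapQ I (I ⊔ Ideal.span {ℓ}) LinearMap.id le_sup_left
  have hsurj : Function.Surjective g := by
    intro y
    obtain ⟨s, rfl⟩ := Submodule.Quotient.mk_surjective _ y
    exact ⟨Submodule.Quotient.mk s, rfl⟩
  have hker : (ℓ • (⊤ : Submodule (MvPolynomial σ K) (MvPolynomial σ K ⧸ I))) = LinearMap.ker g := by
    ext x
    obtain ⟨s, rfl⟩ := Submodule.Quotient.mk_surjective _ x
    rw [LinearMap.mem_ker]
    have hg : g (Submodule.Quotient.mk s) = Submodule.Quotient.mk s := rfl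
    rw [hg, Submodule.Quotient.mk_eq_zero, Submodule.mem_smul_pointwise_iff_exists]
    constructor
    · rintro ⟨y, _, hy⟩
      obtain ⟨t, rfl⟩ := Submodule.Quotient.mk_surjective _ y
      rw [← Submodule.Quotient.mk_smul, Submodule.Quotient.eq] at hy
      have : s = (s - ℓ • t) + ℓ • t := by ring
      rw [this]
      apply Submodule.add_mem_sup
      · have := I.neg_mem hy
        rwa [neg_sub] at this
      · rw [smul_eq_mul, mul_comm]
        exact Ideal.mul_mem_left _ _ (Ideal.subset_span rfl)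
    · intro hs
      obtain ⟨a, ha, b, hb, rfl⟩ := Submodule.mem_sup.mp hs
      obtain ⟨t, rfl⟩ := Ideal.mem_span_singleton'.mp hb
      refine ⟨Submodule.Quotient.mk t, trivial, ?_⟩
      rw [← Submodule.Quotient.mk_smul, Submodule.Quotient.eq]
      have : ℓ • t - (a + t * ℓ) = -a := by rw [smul_eq_mul]; ring
      rw [this]
      exact I.neg_mem ha
  exact (Submodule.quotEquivOfEq _ _ hker).trans (g.quotKerEquivOfSurjective hsurj)

variable [Infinite K]

/-- A module of positive depth along the irrelevant ideal admits a regular linear form. -/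
theorem exists_linear_regular (M : Type u) [AddCommGroup M] [Module (MvPolynomial σ K) M]
    [Module.Finite (MvPolynomial σ K) M]
    (hne : irr σ K • (⊤ : Submodule (MvPolynomial σ K) M) ≠ ⊤)
    (hd : (1 : ℕ∞) ≤ idealDepth (irr σ K) M) :
    ∃ ℓ : MvPolynomial σ K, ℓ.IsHomogeneous 1 ∧ IsSMulRegular M ℓ := by
  by_contra hcon
  push Not at hcon
  have hfin : (associatedPrimes (MvPolynomial σ K) M).Finite := associatedPrimes.finite _ M
  have : Finite (associatedPrimes (MvPolynomial σ K) M) := hfin.to_subtype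
  let L : Submodule K (MvPolynomial σ K) := homogeneousSubmodule σ K 1
  let p : associatedPrimes (MvPolynomial σ K) M → Submodule K L :=
    fun P => ((P : Ideal (MvPolynomial σ K)).restrictScalars K).comap L.subtype
  have hzd : ∀ x : MvPolynomial σ K, ¬ IsSMulRegular M x →
      ∃ P ∈ associatedPrimes (MvPolynomial σ K) M, x ∈ P := by
    intro x hx
    have : x ∈ ⋃ P ∈ associatedPrimes (MvPolynomial σ K) M, (P : Set (MvPolynomial σ K)) := by
      rw [biUnion_associatedPrimes_eq_compl_regular]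
      exact hx
    simp only [Set.mem_iUnion] at this
    obtain ⟨P, hP, hxP⟩ := this
    exact ⟨P, hP, hxP⟩
  have hcover : ∀ x : L, ∃ P, x ∈ p P := by
    intro x
    obtain ⟨P, hP, hxP⟩ := hzd x (hcon x x.2)
    exact ⟨⟨P, hP⟩, hxP⟩
  have hex : ∃ P, p P = ⊤ := by
    by_contra h
    push Not at h
    obtain ⟨x, hx⟩ := Submodule.exists_forall_notMem_of_forall_ne_top p h
    obtain ⟨P, hP⟩ := hcover x
    exact hx P hP
  obtain ⟨⟨P, hP⟩, hPtop⟩ := hex
  have hle : irr σ K ≤ P := by
    rw [irr_eq_span, Ideal.span_le]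
    rintro _ ⟨i, rfl⟩
    have : (⟨X i, isHomogeneous_X K i⟩ : L) ∈ p ⟨P, hP⟩ := by rw [hPtop]; trivial
    exact this
  obtain ⟨rs, hlen, hreg, hmem⟩ := (le_idealDepth_iff hne 1).mp (by exact_mod_cast hd)
  obtain ⟨x, rfl⟩ : ∃ x, rs = [x] := List.length_eq_one_iff.mp hlen
  have hx : IsSMulRegular M x := ((RingTheory.Sequence.isWeaklyRegular_cons_iff M x []).mp hreg).1
  have hxP : x ∈ P := hle (hmem x (by simp))
  have : x ∈ ⋃ P ∈ associatedPrimes (MvPolynomial σ K) M, (P : Set (MvPolynomial σ K)) := by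
    simp only [Set.mem_iUnion]
    exact ⟨P, hP, hxP⟩
  rw [biUnion_associatedPrimes_eq_compl_regular] at this
  exact this hx

end Groth.Agent.Lib.Helper6.GrCM

end
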