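import Mathlib
import Groth.Prelude.Def_CAlg
import Groth.Agent.Lib.Helper6.GrCM.Basic
import Groth.Agent.Lib.Helper6.GrCM.Artin
import Groth.Agent.Lib.Helper8.Depth2
import Groth.Agent.Lib.Helper8.CMPoly1

/-!
# Hironaka's criterion: a graded quotient of a polynomial ring of full depth is Cohen–Macaulay (helper6)
-/

open scoped Classical
set_option linter.unusedSectionVars false
set_option autoImplicit false

universe u

noncomputable section

namespace Groth.Agent.Lib.Helper6.GrCM

open MvPolynomial LocCoh Groth.Agent.Helper8.Depth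
open scoped Pointwise

variable {σ : Type} [Finite σ] {K : Type u} [Field K]

/-- Hironaka data for `I` with `e` linear parameters. -/
def HBasis (I : Ideal (MvPolynomial σ K)) (e : ℕ) : Prop :=
  ∃ (θ : Fin e → MvPolynomial σ K) (ι : Type) (_ : Fintype ι) (b : ι → MvPolynomial σ K)
    (dg : ι → ℕ),
    (∀ i, (θ i).IsHomogeneous 1) ∧ (∀ j, (b j).IsHomogeneous (dg j)) ∧
    (∀ F : ι → MvPolynomial (Fin e) K, (∑ j, aeval θ (F j) * b j) ∈ I → ∀ j, F j = 0) ∧
    (∀ (n : ℕ) (s : MvPolynomial σ K), s.IsHomogeneous n →
      ∃ F : ι → MvPolynomial (Fin e) K, (∀ j, (F j).IsHomogeneous (n - dg j)) ∧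
        (∀ j, n < dg j → F j = 0) ∧ s - ∑ j, aeval θ (F j) * b j ∈ I)

omit [Finite σ] in
lemma hc_mul (g ℓ : MvPolynomial σ K) (hℓ : ℓ.IsHomogeneous 1) (N : ℕ) :
    homogeneousComponent N (g * ℓ) =
      if 0 < N then homogeneousComponent (N - 1) g * ℓ else 0 := by
  conv_lhs => rw [← sum_homogeneousComponent g, Finset.sum_mul, map_sum]
  have key : ∀ k ∈ Finset.range (g.totalDegree + 1),
      homogeneousComponent N (homogeneousComponent k g * ℓ) =
        if N = k + 1 then homogeneousComponent k g * ℓ else 0 := by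
    intro k _
    exact homogeneousComponent_of_mem ((homogeneousComponent_isHomogeneous k g).mul hℓ)
  rw [Finset.sum_congr rfl key]
  split_ifs with hN
  · by_cases hk : N - 1 ∈ Finset.range (g.totalDegree + 1)
    · rw [Finset.sum_eq_single (N - 1)]
      · rw [if_pos (by omega)]
      · intro k _ hne
        rw [if_neg (by omega)]
      · intro h
        exact absurd hk h
    · rw [Finset.sum_eq_zero]
      · rw [homogeneousComponent_eq_zero, zero_mul]
        rw [Finset.mem_range] at hk
        omega
      · intro k hk'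
        rw [Finset.mem_range] at hk hk'
        rw [if_neg (by omega)]
  · apply Finset.sum_eq_zero
    intro k _
    rw [if_neg (by omega)]

/-- Evaluation of a polynomial in one more variable. -/
def Psi {e : ℕ} (θ' : Fin e → MvPolynomial σ K) (ℓ : MvPolynomial σ K) :
    Polynomial (MvPolynomial (Fin e) K) →ₐ[K] MvPolynomial σ K :=
  Polynomial.aevalTower (aeval θ') ℓ

omit [Finite σ] in
lemma aeval_cons {e : ℕ} (θ' : Fin e → MvPolynomial σ K) (ℓ : MvPolynomial σ K)
    (F : MvPolynomial (Fin (e + 1)) K) :
    aeval (Fin.cons ℓ θ' : Fin (e + 1) → MvPolynomial σ K) F = Psi θ' ℓ (finSuccEquiv K e F) := by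
  have : (aeval (Fin.cons ℓ θ' : Fin (e + 1) → MvPolynomial σ K)) =
      (Psi θ' ℓ).comp (finSuccEquiv K e).toAlgHom := by
    apply MvPolynomial.algHom_ext
    intro i
    refine Fin.cases ?_ (fun k => ?_) i
    · rw [aeval_X, Fin.cons_zero, AlgHom.comp_apply]
      show ℓ = Psi θ' ℓ (finSuccEquiv K e (X 0))
      rw [finSuccEquiv_X_zero]
      unfold Psi
      rw [Polynomial.aevalTower_X]
    · rw [aeval_X, Fin.cons_succ, AlgHom.comp_apply]
      show θ' k = Psi θ' ℓ (finSuccEquiv K e (X k.succ))
      rw [finSuccEquiv_X_succ]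
      unfold Psi
      rw [Polynomial.aevalTower_C, aeval_X]
  rw [this]
  rfl

omit [Finite σ] in
lemma aeval_cons_rename {e : ℕ} (θ' : Fin e → MvPolynomial σ K) (ℓ : MvPolynomial σ K)
    (F : MvPolynomial (Fin e) K) :
    aeval (Fin.cons ℓ θ' : Fin (e + 1) → MvPolynomial σ K) (rename Fin.succ F) = aeval θ' F := by
  rw [aeval_rename]
  congr 1

omit [Finite σ] in
theorem HBasis.step {I : Ideal (MvPolynomial σ K)} (hI : HomI I) (ℓ : MvPolynomial σ K)
    (hℓ : ℓ.IsHomogeneous 1) (hreg : ∀ s, ℓ * s ∈ I → s ∈ I) {e : ℕ}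
    (h : HBasis (I ⊔ Ideal.span {ℓ}) e) : HBasis I (e + 1) := by
  obtain ⟨θ', ι, _, b, dg, hθ', hb, hind, hspan⟩ := h
  refine ⟨Fin.cons ℓ θ', ι, inferInstance, b, dg, ?_, hb, ?_, ?_⟩
  · intro i
    refine Fin.cases ?_ (fun k => ?_) i
    · rw [Fin.cons_zero]; exact hℓ
    · rw [Fin.cons_succ]; exact hθ' k
  · -- independence
    intro F hF
    have key : ∀ (N : ℕ) (G : ι → Polynomial (MvPolynomial (Fin e) K)),
        (∀ j, (G j).degree < (N : WithBot ℕ)) →
        (∑ j, Psi θ' ℓ (G j) * b j) ∈ I → ∀ j, G j = 0 := by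
      intro N
      induction N with
      | zero =>
        intro G hG _ j
        have := hG j
        rw [Nat.cast_zero, Nat.WithBot.lt_zero_iff] at this
        exact Polynomial.degree_eq_bot.mp this
      | succ N ih =>
        intro G hG hsum j
        have hdecomp : ∀ j, G j = (G j).divX * Polynomial.X + Polynomial.C ((G j).coeff 0) :=
          fun j => (Polynomial.divX_mul_X_add (G j)).symm
        have hΨ : ∀ j, Psi θ' ℓ (G j) = Psi θ' ℓ ((G j).divX) * ℓ + aeval θ' ((G j).coeff 0) := by
          intro j
          conv_lhs => rw [hdecomp j]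
          rw [map_add, map_mul]
          unfold Psi
          rw [Polynomial.aevalTower_X, Polynomial.aevalTower_C]
        have hsum' : (∑ j, aeval θ' ((G j).coeff 0) * b j) +
            ℓ * (∑ j, Psi θ' ℓ ((G j).divX) * b j) ∈ I := by
          have : (∑ j, aeval θ' ((G j).coeff 0) * b j) +
              ℓ * (∑ j, Psi θ' ℓ ((G j).divX) * b j) = ∑ j, Psi θ' ℓ (G j) * b j := by
            rw [Finset.mul_sum, ← Finset.sum_add_distrib]
            apply Finset.sum_congr rfl
            intro j _
            rw [hΨ j]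
            ring
          rw [this]
          exact hsum
        have hc : ∀ j, (G j).coeff 0 = 0 := by
          apply hind
          have : ∑ j, aeval θ' ((G j).coeff 0) * b j =
              ((∑ j, aeval θ' ((G j).coeff 0) * b j) +
                ℓ * (∑ j, Psi θ' ℓ ((G j).divX) * b j)) -
              (∑ j, Psi θ' ℓ ((G j).divX) * b j) * ℓ := by ring
          rw [this]
          exact Submodule.sub_mem _ (Ideal.mem_sup_left hsum')
            (Ideal.mem_sup_right (Ideal.mul_mem_left _ _ (Ideal.subset_span rfl)))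
        have h2 : ℓ * ∑ j, Psi θ' ℓ ((G j).divX) * b j ∈ I := by
          have : (∑ j, aeval θ' ((G j).coeff 0) * b j) = 0 := by
            apply Finset.sum_eq_zero
            intro j _
            rw [hc j, map_zero, zero_mul]
          rwa [this, zero_add] at hsum'
        have h3 := hreg _ h2
        have hdiv : ∀ j, (G j).divX = 0 := by
          apply ih (fun j => (G j).divX) (fun j => ?_) h3
          by_cases h0 : G j = 0
          · rw [h0, Polynomial.divX_zero, Polynomial.degree_zero]
            exact WithBot.bot_lt_coe _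
          · have h4 := Polynomial.degree_divX_lt h0
            have h5 := hG j
            rw [Polynomial.degree_eq_natDegree h0] at h4 h5
            have h6 : (G j).natDegree < N + 1 := by exact_mod_cast h5
            refine lt_of_lt_of_le h4 ?_
            exact_mod_cast Nat.lt_succ_iff.mp h6
        rw [hdecomp j, hdiv j, hc j, zero_mul, map_zero, add_zero]
    have hF' : (∑ j, Psi θ' ℓ (finSuccEquiv K e (F j)) * b j) ∈ I := by
      have : (∑ j, Psi θ' ℓ (finSuccEquiv K e (F j)) * b j) =
          ∑ j, aeval (Fin.cons ℓ θ' : Fin (e + 1) → MvPolynomial σ K) (F j) * b j := by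
        apply Finset.sum_congr rfl
        intro j _
        rw [aeval_cons]
      rw [this]
      exact hF
    have hdeg : ∀ j, (finSuccEquiv K e (F j)).degree <
        ((Finset.univ.sup (fun j => (finSuccEquiv K e (F j)).natDegree) + 1 : ℕ) : WithBot ℕ) := by
      intro j
      refine lt_of_le_of_lt Polynomial.degree_le_natDegree ?_
      have : (finSuccEquiv K e (F j)).natDegree ≤
          Finset.univ.sup (fun j => (finSuccEquiv K e (F j)).natDegree) :=
        Finset.le_sup (f := fun j => (finSuccEquiv K e (F j)).natDegree) (Finset.mem_univ j)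
      exact_mod_cast Nat.lt_succ_of_le this
    intro j
    have := key _ (fun j => finSuccEquiv K e (F j)) hdeg hF' j
    exact (finSuccEquiv K e).injective (by rw [this, map_zero])
  · -- spanning
    intro n
    induction n using Nat.strong_induction_on with
    | _ n ih =>
      intro s hs
      obtain ⟨F', hF'h, hF'z, hr⟩ := hspan n s hs
      have hrh : (s - ∑ j, aeval θ' (F' j) * b j).IsHomogeneous n := by
        apply IsHomogeneous.sub hs
        apply IsHomogeneous.sum
        intro j _
        by_cases hj : n < dg j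
        · rw [hF'z j hj, map_zero, zero_mul]
          exact isHomogeneous_zero _ _ _
        · have h1 : (aeval θ' (F' j)).IsHomogeneous (n - dg j) := by
            have := (hF'h j).aeval θ' hθ'
            rwa [one_mul] at this
          have := h1.mul (hb j)
          rwa [Nat.sub_add_cancel (by omega)] at this
      obtain ⟨a, ha, c, hc, hac⟩ := Submodule.mem_sup.mp hr
      obtain ⟨g, rfl⟩ := Ideal.mem_span_singleton'.mp hc
      have hcomp : s - ∑ j, aeval θ' (F' j) * b j =
          homogeneousComponent n a + homogeneousComponent n (g * ℓ) := by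
        conv_lhs => rw [← homogeneousComponent_eq_self hrh]
        rw [← hac, map_add]
      rw [hc_mul g ℓ hℓ n] at hcomp
      by_cases hn : 0 < n
      · rw [if_pos hn] at hcomp
        obtain ⟨H, hHh, hHz, hHr⟩ := ih (n - 1) (by omega) (homogeneousComponent (n - 1) g)
          (homogeneousComponent_isHomogeneous _ _)
        refine ⟨fun j => rename Fin.succ (F' j) + X 0 * H j, ?_, ?_, ?_⟩
        · intro j
          apply IsHomogeneous.add ((hF'h j).rename_isHomogeneous)
          by_cases hj : n - 1 < dg j
          · rw [hHz j hj, mul_zero]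
            exact isHomogeneous_zero _ _ _
          · have := (isHomogeneous_X K (0 : Fin (e + 1))).mul (hHh j)
            have e1 : 1 + (n - 1 - dg j) = n - dg j := by omega
            rwa [e1] at this
        · intro j hj
          show rename Fin.succ (F' j) + X 0 * H j = 0
          rw [hF'z j hj, hHz j (by omega), map_zero, mul_zero, add_zero]
        · have e1 : ∀ j, aeval (Fin.cons ℓ θ' : Fin (e + 1) → MvPolynomial σ K)
              (rename Fin.succ (F' j) + X 0 * H j) =
              aeval θ' (F' j) + ℓ * aeval (Fin.cons ℓ θ' : Fin (e + 1) → MvPolynomial σ K) (H j) := by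
            intro j
            rw [map_add, aeval_cons_rename, map_mul, aeval_X, Fin.cons_zero]
          have e2 : s - ∑ j, aeval (Fin.cons ℓ θ' : Fin (e + 1) → MvPolynomial σ K)
              (rename Fin.succ (F' j) + X 0 * H j) * b j =
              homogeneousComponent n a + ℓ * (homogeneousComponent (n - 1) g -
                ∑ j, aeval (Fin.cons ℓ θ' : Fin (e + 1) → MvPolynomial σ K) (H j) * b j) := by
            have e3 : ∑ j, aeval (Fin.cons ℓ θ' : Fin (e + 1) → MvPolynomial σ K)
                (rename Fin.succ (F' j) + X 0 * H j) * b j =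
                ∑ j, aeval θ' (F' j) * b j +
                ℓ * ∑ j, aeval (Fin.cons ℓ θ' : Fin (e + 1) → MvPolynomial σ K) (H j) * b j := by
              rw [Finset.mul_sum, ← Finset.sum_add_distrib]
              apply Finset.sum_congr rfl
              intro j _
              rw [e1 j]
              ring
            rw [e3, ← sub_sub, hcomp]
            ring
          rw [e2]
          exact I.add_mem (hI a ha n) (Ideal.mul_mem_left _ _ hHr)
      · rw [if_neg hn, add_zero] at hcomp
        refine ⟨fun j => rename Fin.succ (F' j), fun j => (hF'h j).rename_isHomogeneous,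
          fun j hj => by
            show rename Fin.succ (F' j) = 0
            rw [hF'z j hj, map_zero], ?_⟩
        have e3 : ∑ j, aeval (Fin.cons ℓ θ' : Fin (e + 1) → MvPolynomial σ K)
            (rename Fin.succ (F' j)) * b j = ∑ j, aeval θ' (F' j) * b j := by
          apply Finset.sum_congr rfl
          intro j _
          rw [aeval_cons_rename]
        rw [e3, hcomp]
        exact hI a ha n

/-- Base case: dimension zero. -/
theorem HBasis.base {I : Ideal (MvPolynomial σ K)} (hI : HomI I)
    (hdim : ringKrullDim (MvPolynomial σ K ⧸ I) ≤ 0) : HBasis I 0 := by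
  haveI : Algebra.FiniteType K (MvPolynomial σ K ⧸ I) :=
    Algebra.FiniteType.of_surjective (Ideal.Quotient.mkₐ K I) (Ideal.Quotient.mkₐ_surjective K I)
  haveI : Ring.KrullDimLE 0 (MvPolynomial σ K ⧸ I) := Ring.krullDimLE_iff.mpr hdim
  haveI : Module.Finite K (MvPolynomial σ K ⧸ I) :=
    (Module.finite_iff_krullDimLE_zero K (MvPolynomial σ K ⧸ I)).mpr inferInstance
  let v : (σ →₀ ℕ) → (MvPolynomial σ K ⧸ I) := fun α => Ideal.Quotient.mk I (monomial α 1)
  have hv : Submodule.span K (Set.range v) = ⊤ := by
    have h1 : Submodule.span K (Set.range fun α : σ →₀ ℕ =>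
        (monomial α (1 : K) : MvPolynomial σ K)) = ⊤ := by
      have := (basisMonomials σ K).span_eq
      rwa [coe_basisMonomials] at this
    have h2 : Set.range v = (Ideal.Quotient.mkₐ K I).toLinearMap ''
        (Set.range fun α : σ →₀ ℕ => (monomial α (1 : K) : MvPolynomial σ K)) := by
      rw [← Set.range_comp]
      rfl
    rw [h2, ← Submodule.map_span, h1, Submodule.map_top, LinearMap.range_eq_top]
    exact Ideal.Quotient.mkₐ_surjective K I
  obtain ⟨κ, a, _, hsp, hli⟩ := exists_linearIndependent' K v
  rw [hv] at hsp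
  haveI : Finite κ := hli.finite
  haveI : Fintype κ := Fintype.ofFinite κ
  have hmk : ∀ (c : K) (f : MvPolynomial σ K),
      Ideal.Quotient.mk I (C c * f) = c • Ideal.Quotient.mk I f := by
    intro c f
    rw [C_mul']
    exact map_smul (Ideal.Quotient.mkₐ K I) c f
  refine ⟨Fin.elim0, κ, inferInstance, fun j => monomial (a j) 1, fun j => Finsupp.degree (a j),
    fun i => i.elim0, fun j => isHomogeneous_monomial _ rfl, ?_, ?_⟩
  · intro F hF
    have hFC : ∀ j, F j = C (coeff 0 (F j)) := fun j => eq_C_of_isEmpty (F j)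
    have hsum : ∑ j, coeff 0 (F j) • (v ∘ a) j = 0 := by
      rw [← Ideal.Quotient.eq_zero_iff_mem, map_sum] at hF
      rw [← hF]
      apply Finset.sum_congr rfl
      intro j _
      rw [hFC j, aeval_C, algebraMap_eq, hmk]
      simp [v]
    intro j
    rw [hFC j, Fintype.linearIndependent_iff.mp hli _ hsum j, C_0]
  · intro n s hs
    have hmem : Ideal.Quotient.mk I s ∈ Submodule.span K (Set.range (v ∘ a)) := by
      rw [hsp]; trivial
    obtain ⟨c, hc⟩ := (Submodule.mem_span_range_iff_exists_fun K).mp hmem
    have ht : s - ∑ j, C (c j) * monomial (a j) 1 ∈ I := by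
      rw [← Ideal.Quotient.eq_zero_iff_mem, map_sub, map_sum, ← hc, sub_eq_zero]
      apply Finset.sum_congr rfl
      intro j _
      rw [hmk]
      rfl
    have ht' := hI _ ht n
    rw [map_sub, homogeneousComponent_eq_self hs, map_sum] at ht'
    refine ⟨fun j => if Finsupp.degree (a j) = n then C (c j) else 0, ?_, ?_, ?_⟩
    · intro j
      show (if Finsupp.degree (a j) = n then C (c j) else 0 : MvPolynomial (Fin 0) K).IsHomogeneous
        (n - Finsupp.degree (a j))
      split_ifs with h
      · rw [h, Nat.sub_self]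
        exact isHomogeneous_C _ _
      · exact isHomogeneous_zero _ _ _
    · intro j hj
      have hj' : n < Finsupp.degree (a j) := hj
      show (if Finsupp.degree (a j) = n then C (c j) else 0 : MvPolynomial (Fin 0) K) = 0
      rw [if_neg (by omega)]
    · have : ∑ j, aeval (Fin.elim0 : Fin 0 → MvPolynomial σ K)
          (if Finsupp.degree (a j) = n then C (c j) else 0) * monomial (a j) (1 : K) =
          ∑ j, homogeneousComponent n (C (c j) * monomial (a j) (1 : K)) := by
        apply Finset.sum_congr rfl
        intro j _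
        have hh : (C (c j) * monomial (a j) (1 : K) : MvPolynomial σ K).IsHomogeneous
            (Finsupp.degree (a j)) := by
          have := (isHomogeneous_C σ (c j)).mul (isHomogeneous_monomial (1 : K) (rfl : Finsupp.degree (a j) = _))
          rwa [zero_add] at this
        rw [homogeneousComponent_of_mem hh]
        split_ifs with h1 h2 h2
        · rw [aeval_C, algebraMap_eq]
        · exact absurd h1.symm h2
        · exact absurd h2.symm h1
        · rw [map_zero, zero_mul]
      rw [this]
      exact ht'

/-- Hironaka data give a Cohen–Macaulay ring. -/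
theorem cm_of_HBasis {I : Ideal (MvPolynomial σ K)} {e : ℕ} (h : HBasis I e) :
    IsCohenMacaulayRing (MvPolynomial σ K ⧸ I) := by
  obtain ⟨θ, ι, _, b, dg, hθ, hb, hind, hspan⟩ := h
  let φ : MvPolynomial (Fin e) K →ₐ[K] (MvPolynomial σ K ⧸ I) :=
    (Ideal.Quotient.mkₐ K I).comp (aeval θ)
  letI : Algebra (MvPolynomial (Fin e) K) (MvPolynomial σ K ⧸ I) := φ.toRingHom.toAlgebra
  have hsmul : ∀ (r : MvPolynomial (Fin e) K) (x : MvPolynomial σ K ⧸ I),
      r • x = Ideal.Quotient.mk I (aeval θ r) * x := fun r x => rfl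
  let v : ι → MvPolynomial σ K ⧸ I := fun j => Ideal.Quotient.mk I (b j)
  have hli : LinearIndependent (MvPolynomial (Fin e) K) v := by
    rw [Fintype.linearIndependent_iff]
    intro g hg j
    apply hind g _ j
    rw [← Ideal.Quotient.eq_zero_iff_mem, map_sum, ← hg]
    apply Finset.sum_congr rfl
    intro j _
    rw [map_mul, hsmul]
  have hsp : ⊤ ≤ Submodule.span (MvPolynomial (Fin e) K) (Set.range v) := by
    intro x _
    obtain ⟨s, rfl⟩ := Ideal.Quotient.mk_surjective x
    rw [← sum_homogeneousComponent s, map_sum]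
    apply Submodule.sum_mem
    intro n _
    obtain ⟨F, -, -, hF⟩ := hspan n _ (homogeneousComponent_isHomogeneous n s)
    have : Ideal.Quotient.mk I (homogeneousComponent n s) = ∑ j, F j • v j := by
      rw [← Ideal.Quotient.eq_zero_iff_mem, map_sub, map_sum, sub_eq_zero] at hF
      rw [hF]
      apply Finset.sum_congr rfl
      intro j _
      rw [map_mul, hsmul]
    rw [this]
    exact Submodule.sum_mem _ fun j _ => Submodule.smul_mem _ _ (Submodule.subset_span ⟨j, rfl⟩)
  let B := Module.Basis.mk hli hsp
  haveI : Module.Free (MvPolynomial (Fin e) K) (MvPolynomial σ K ⧸ I) := Module.Free.of_basis B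
  haveI : Module.Finite (MvPolynomial (Fin e) K) (MvPolynomial σ K ⧸ I) :=
    Module.Finite.of_basis B
  have hP : IsCohenMacaulayRing (MvPolynomial (Fin e) K) :=
    Groth.Agent.Helper8.CplMap.isCohenMacaulayRing_of_isRegularRing _
  refine Groth.Agent.Helper8.CMPoly.isCohenMacaulayRing_of_flat_of_fibres _ _ hP (fun q hq => ?_)
  exact @isCohenMacaulayRing_of_isArtinianRing (q.Fiber (MvPolynomial σ K ⧸ I)) _
    (IsArtinianRing.of_finite q.ResidueField _)

variable [Infinite K]

/-- Existence of Hironaka data from a depth bound. -/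
theorem hbasis_of_depth_ge : ∀ (e : ℕ) (I : Ideal (MvPolynomial σ K)), HomI I → I ≠ ⊤ →
    ringKrullDim (MvPolynomial σ K ⧸ I) ≤ (e : WithBot ℕ∞) →
    (e : ℕ∞) ≤ idealDepth (irr σ K) (MvPolynomial σ K ⧸ I) → HBasis I e := by
  intro e
  induction e with
  | zero =>
    intro I hI _ hdim _
    exact HBasis.base hI (by simpa using hdim)
  | succ e ih =>
    intro I hI hne hdim hdepth
    have hle : I ≤ irr σ K := hI.le_irr hne
    have hsm := smul_top_ne_top (σ := σ) (K := K) hle
    have hd1 : (1 : ℕ∞) ≤ idealDepth (irr σ K) (MvPolynomial σ K ⧸ I) := by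
      refine le_trans ?_ hdepth
      exact_mod_cast Nat.succ_le_succ (Nat.zero_le e)
    obtain ⟨ℓ, hℓ, hreg⟩ := exists_linear_regular (MvPolynomial σ K ⧸ I) hsm hd1
    have hℓirr : ℓ ∈ irr σ K := mem_irr_of_isHomogeneous one_pos hℓ
    have hI' : HomI (I ⊔ Ideal.span {ℓ}) := by
      apply hI.sup
      apply homI_span
      intro f hf
      rw [Set.mem_singleton_iff] at hf
      exact ⟨1, hf ▸ hℓ⟩
    have hle' : I ⊔ Ideal.span {ℓ} ≤ irr σ K :=
      sup_le hle ((Ideal.span_singleton_le_iff_mem _).mpr hℓirr)
    have hne' : I ⊔ Ideal.span {ℓ} ≠ ⊤ := fun h => irr_ne_top (top_le_iff.mp (h ▸ hle'))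
    -- dimension drops
    have hdim' : ringKrullDim (MvPolynomial σ K ⧸ (I ⊔ Ideal.span {ℓ})) ≤ (e : WithBot ℕ∞) := by
      have hnzd : Ideal.Quotient.mk I ℓ ∈ nonZeroDivisors (MvPolynomial σ K ⧸ I) := by
        rw [mem_nonZeroDivisors_iff_right]
        intro y hy
        obtain ⟨s, rfl⟩ := Ideal.Quotient.mk_surjective y
        rw [← map_mul, Ideal.Quotient.eq_zero_iff_mem, mul_comm] at hy
        exact Ideal.Quotient.eq_zero_iff_mem.mpr (mem_of_mul_mem hreg s hy)
      have h1 := ringKrullDim_quotient_succ_le_of_nonZeroDivisor hnzd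
      have e1 : Ideal.span {Ideal.Quotient.mk I ℓ} = (Ideal.span {ℓ}).map (Ideal.Quotient.mk I) := by
        rw [Ideal.map_span, Set.image_singleton]
      rw [e1, ringKrullDim_eq_of_ringEquiv (DoubleQuot.quotQuotEquivQuotSup I (Ideal.span {ℓ}))] at h1
      have h2 := h1.trans hdim
      generalize ringKrullDim (MvPolynomial σ K ⧸ (I ⊔ Ideal.span {ℓ})) = D at h2 ⊢
      induction D using WithBot.recBotCoe with
      | bot => exact bot_le
      | coe D =>
        have h3 : D + 1 ≤ ((e + 1 : ℕ) : ℕ∞) := by exact_mod_cast h2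
        have h4 : D ≤ (e : ℕ∞) := by
          rw [Nat.cast_add, Nat.cast_one] at h3
          exact (ENat.add_le_add_iff_right ENat.one_ne_top).mp h3
        exact_mod_cast h4
    -- depth drops
    have hdepth' : (e : ℕ∞) ≤ idealDepth (irr σ K) (MvPolynomial σ K ⧸ (I ⊔ Ideal.span {ℓ})) := by
      have h1 := idealDepth_quotSMulTop_add_one hsm hℓirr hreg
      rw [idealDepth_congr (quotEquiv I ℓ)] at h1
      rw [← h1, Nat.cast_add, Nat.cast_one] at hdepth
      exact (ENat.add_le_add_iff_right ENat.one_ne_top).mp hdepth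
    exact HBasis.step hI ℓ hℓ (mem_of_mul_mem hreg) (ih _ hI' hne' hdim' hdepth')

/-- **Hironaka's criterion**: a graded quotient of a polynomial ring over an infinite field whose depth
along the irrelevant ideal is at least its dimension is a Cohen–Macaulay ring. -/
theorem isCohenMacaulayRing_of_depth_ge (I : Ideal (MvPolynomial σ K)) (hI : HomI I) (hne : I ≠ ⊤)
    (e : ℕ) (hdim : ringKrullDim (MvPolynomial σ K ⧸ I) ≤ (e : WithBot ℕ∞))
    (hdepth : (e : ℕ∞) ≤ idealDepth (irr σ K) (MvPolynomial σ K ⧸ I)) :
    IsCohenMacaulayRing (MvPolynomial σ K ⧸ I) :=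
  cm_of_HBasis (hbasis_of_depth_ge e I hI hne hdim hdepth)

end Groth.Agent.Lib.Helper6.GrCM

end
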