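import Mathlib
import Groth.Prelude.Def_CAlg
import Groth.Agent.Lib.Helper6.GrCM.Hironaka
import Groth.Agent.Lib.Helper8.Depth20
import Groth.Agent.Lib.Helper4.DimFT2

/-!
# A cone is Cohen–Macaulay iff it is so at its vertex (helper6)
-/

open scoped Classical
set_option linter.unusedSectionVars false
set_option autoImplicit false

universe u

noncomputable section

namespace Groth.Agent.Lib.Helper6.GrCM

open MvPolynomial LocCoh Groth.Agent.Helper8.Depth

section General

/-- Dimension of a finite type algebra all of whose minimal primes lie in a given maximal ideal. -/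
theorem ringKrullDim_le_height_of_minimalPrimes_le (k : Type u) [Field k] (A : Type u) [CommRing A]
    [Algebra k A] [Algebra.FiniteType k A] (m : Ideal A) [hm : m.IsMaximal]
    (h : ∀ P ∈ minimalPrimes A, P ≤ m) : ringKrullDim A ≤ (m.height : WithBot ℕ∞) := by
  haveI : IsNoetherianRing A := Algebra.FiniteType.isNoetherianRing k A
  rw [ringKrullDim_le_iff_isMaximal_height_le]
  intro n hn
  haveI := hn
  haveI := hn.isPrime
  haveI := hm.isPrime
  obtain ⟨P, hPmin, hPn, hht⟩ := Groth.Agent.Lib.Helper4.DimFT2.exists_minimalPrimes_height_eq n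
  haveI : P.IsPrime := hPmin.1.1
  have h1 := Groth.Agent.Lib.Helper4.DimFT2.height_map_eq_dim_of_isMaximal k A P n hPn
  have h2 := Groth.Agent.Lib.Helper4.DimFT2.height_map_eq_dim_of_isMaximal k A P m (h P hPmin)
  have h3 := Groth.Agent.Lib.Helper4.DimFT2.height_map_mk_le P m (h P hPmin)
  rw [← hht, h1, ← h2]
  exact_mod_cast h3

/-- Depth along an ideal whose image is maximal, in terms of the local ring at the image. -/
theorem idealDepth_eq_height_of_cm (R : Type u) [CommRing R] [IsNoetherianRing R] (I 𝔞 : Ideal R)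
    [hp : (𝔞.map (Ideal.Quotient.mk I)).IsPrime] (hmax : (𝔞.map (Ideal.Quotient.mk I)).IsMaximal)
    (hCM : IsCohenMacaulayLocalRing (Localization.AtPrime (𝔞.map (Ideal.Quotient.mk I)))) :
    idealDepth 𝔞 (R ⧸ I) = (𝔞.map (Ideal.Quotient.mk I)).height := by
  have h1 := idealDepth_tower R (R ⧸ I) 𝔞 (R ⧸ I)
  have hmap : 𝔞.map (algebraMap R (R ⧸ I)) = 𝔞.map (Ideal.Quotient.mk I) := rfl
  rw [hmap] at h1
  rw [h1, idealDepth_eq_iInf_depth_localization]
  have h2 := hCM.supportDim_eq_depth
  rw [supportDim_localization_self] at h2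
  have h3 : depth (Localization.AtPrime (𝔞.map (Ideal.Quotient.mk I)))
      (Localization.AtPrime (𝔞.map (Ideal.Quotient.mk I))) =
      (𝔞.map (Ideal.Quotient.mk I)).height := (WithBot.coe_injective h2).symm
  apply le_antisymm
  · refine le_trans (iInf₂_le (⟨𝔞.map (Ideal.Quotient.mk I), hp⟩ : PrimeSpectrum (R ⧸ I)) le_rfl) ?_
    rw [depth_localizedModule_self, h3]
  · refine le_iInf₂ fun p hpm => ?_
    have hpe : p = ⟨𝔞.map (Ideal.Quotient.mk I), hp⟩ := by
      apply PrimeSpectrum.ext
      exact (hmax.eq_of_le p.2.ne_top hpm).symm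
    subst hpe
    rw [depth_localizedModule_self, h3]

end General

variable {σ : Type} [Finite σ] {K : Type u} [Field K]

section
attribute [local instance] MvPolynomial.gradedAlgebra

omit [Finite σ] in
/-- Minimal primes of a homogeneous ideal lie in the irrelevant ideal. -/
theorem minimalPrimes_le_irr {I : Ideal (MvPolynomial σ K)}
    (hI : I.IsHomogeneous (homogeneousSubmodule σ K)) {Q : Ideal (MvPolynomial σ K)}
    (hQ : Q ∈ I.minimalPrimes) : Q ≤ irr σ K := by
  haveI hQp : Q.IsPrime := hQ.1.1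
  have hcp : (Q.homogeneousCore (homogeneousSubmodule σ K)).toIdeal.IsPrime :=
    Ideal.IsPrime.homogeneousCore hQp
  have hIc : I ≤ (Q.homogeneousCore (homogeneousSubmodule σ K)).toIdeal := by
    have h1 := Ideal.homogeneousCore_mono (homogeneousSubmodule σ K) hQ.1.2
    have h2 := hI.toIdeal_homogeneousCore_eq_self
    rw [← h2]
    exact h1
  have hcQ : (Q.homogeneousCore (homogeneousSubmodule σ K)).toIdeal ≤ Q :=
    Ideal.toIdeal_homogeneousCore_le _ Q
  have hQc : Q ≤ (Q.homogeneousCore (homogeneousSubmodule σ K)).toIdeal := hQ.2 ⟨hcp, hIc⟩ hcQ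
  have hQhom : Q.IsHomogeneous (homogeneousSubmodule σ K) := by
    have : Q = (Q.homogeneousCore (homogeneousSubmodule σ K)).toIdeal := le_antisymm hQc hcQ
    rw [this]
    exact (Q.homogeneousCore (homogeneousSubmodule σ K)).isHomogeneous
  exact (homI_of_isHomogeneous hQhom).le_irr hQp.ne_top

omit [Finite σ] in
theorem isHomogeneous_span_of (T : Set (MvPolynomial σ K))
    (hT : ∀ f ∈ T, ∃ k : ℕ, f.IsHomogeneous k) :
    (Ideal.span T).IsHomogeneous (homogeneousSubmodule σ K) := by
  apply Ideal.homogeneous_span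
  intro x hx
  obtain ⟨k, hk⟩ := hT x hx
  exact ⟨k, hk⟩

omit [Finite σ] in
theorem minimalPrimes_le_irr_of_span (T : Set (MvPolynomial σ K))
    (hT : ∀ f ∈ T, ∃ k : ℕ, f.IsHomogeneous k) {Q : Ideal (MvPolynomial σ K)}
    (hQ : Q ∈ (Ideal.span T).minimalPrimes) : Q ≤ irr σ K :=
  minimalPrimes_le_irr (isHomogeneous_span_of T hT) hQ

end

variable [Infinite K]

/-- **Graded local–global principle**: a standard graded quotient of a polynomial ring over an infinite
field which is Cohen–Macaulay at the vertex is Cohen–Macaulay. -/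
theorem isCohenMacaulayRing_of_vertex (I : Ideal (MvPolynomial σ K))
    (hI : ∃ T : Set (MvPolynomial σ K), (∀ f ∈ T, ∃ k : ℕ, f.IsHomogeneous k) ∧ I = Ideal.span T)
    (hne : I ≠ ⊤) [hp : ((irr σ K).map (Ideal.Quotient.mk I)).IsPrime]
    (hCM : IsCohenMacaulayLocalRing (Localization.AtPrime ((irr σ K).map (Ideal.Quotient.mk I)))) :
    IsCohenMacaulayRing (MvPolynomial σ K ⧸ I) := by
  obtain ⟨T, hT, rfl⟩ := hI
  have hhom : HomI (Ideal.span T) := homI_span T hT
  have hle : Ideal.span T ≤ irr σ K := hhom.le_irr hne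
  -- the irrelevant ideal is maximal
  have hirrmax : (irr σ K).IsMaximal := by
    unfold irr
    exact RingHom.ker_isMaximal_of_surjective _ (fun c => ⟨C c, constantCoeff_C σ c⟩)
  have hmax : ((irr σ K).map (Ideal.Quotient.mk (Ideal.span T))).IsMaximal :=
    Ideal.IsMaximal.map_of_surjective_of_ker_le Ideal.Quotient.mk_surjective
      (by rw [Ideal.mk_ker]; exact hle)
  haveI : Algebra.FiniteType K (MvPolynomial σ K ⧸ Ideal.span T) :=
    Algebra.FiniteType.of_surjective (Ideal.Quotient.mkₐ K (Ideal.span T))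
      (Ideal.Quotient.mkₐ_surjective K (Ideal.span T))
  have hfin : ((irr σ K).map (Ideal.Quotient.mk (Ideal.span T))).height ≠ ⊤ :=
    Ideal.height_ne_top hp.ne_top
  obtain ⟨e, he⟩ := ENat.ne_top_iff_exists.mp hfin
  have hdim : ringKrullDim (MvPolynomial σ K ⧸ Ideal.span T) ≤ (e : WithBot ℕ∞) := by
    have := ringKrullDim_le_height_of_minimalPrimes_le K (MvPolynomial σ K ⧸ Ideal.span T)
      ((irr σ K).map (Ideal.Quotient.mk (Ideal.span T))) (hm := hmax) (by
        intro P hP
        have hsurj : Function.Surjective (Ideal.Quotient.mk (Ideal.span T)) :=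
          Ideal.Quotient.mk_surjective
        have h1 : P.comap (Ideal.Quotient.mk (Ideal.span T)) ∈
            ((⊥ : Ideal (MvPolynomial σ K ⧸ Ideal.span T)).comap
              (Ideal.Quotient.mk (Ideal.span T))).minimalPrimes := by
          rw [Ideal.comap_minimalPrimes_eq_of_surjective hsurj]
          exact ⟨P, hP, rfl⟩
        rw [← RingHom.ker_eq_comap_bot, Ideal.mk_ker] at h1
        have h2 := minimalPrimes_le_irr_of_span T hT h1
        have h3 := Ideal.map_mono (f := Ideal.Quotient.mk (Ideal.span T)) h2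
        rwa [Ideal.map_comap_of_surjective _ hsurj] at h3)
    rw [← he] at this
    exact this
  have hdepth : (e : ℕ∞) ≤ idealDepth (irr σ K) (MvPolynomial σ K ⧸ Ideal.span T) := by
    rw [idealDepth_eq_height_of_cm (MvPolynomial σ K) (Ideal.span T) (irr σ K) hmax hCM, he]
  exact isCohenMacaulayRing_of_depth_ge (Ideal.span T) hhom hne e hdim hdepth

end Groth.Agent.Lib.Helper6.GrCM

end
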