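import Mathlib
import Groth.Prelude.Def_CAlg
import Groth.Agent.Lib.Helper8.Depth20
import Groth.Agent.Lib.Helper4.DimFT2

/-!
# Descent of Cohen–Macaulayness and normality to a hypersurface section / retract (helper6)

* `isCohenMacaulayRing_of_prime_le`: a Noetherian ring with `ht p ≤ depth_p R` for all primes is CM;
* `isCohenMacaulayRing_quotient_span_singleton`: a CM domain modulo a nonzero principal prime is CM;
* `isIntegrallyClosed_of_retract`: a retract of an integrally closed domain is integrally closed;
* `aeval_mul_const_of_isHomogeneous`: scaling the point by `u` scales a form of degree `k` by `u ^ k`.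
-/

open scoped Classical
set_option linter.unusedSectionVars false
set_option autoImplicit false

universe u v

noncomputable section

namespace Groth.Agent.Lib.Helper6.GrCM

open LocCoh Groth.Agent.Helper8.Depth
open scoped Pointwise

theorem isCohenMacaulayRing_of_prime_le {R : Type u} [CommRing R] [IsNoetherianRing R]
    (h : ∀ (p : Ideal R) [p.IsPrime], p.height ≤ idealDepth p R) : IsCohenMacaulayRing R := by
  refine ⟨fun p hp => ?_⟩
  have h1 := h p
  have h2 : idealDepth p R ≤
      depth (Localization.AtPrime p) (LocalizedModule p.primeCompl R) := by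
    rw [idealDepth_eq_iInf_depth_localization]
    exact iInf₂_le (⟨p, hp⟩ : PrimeSpectrum R) le_rfl
  rw [depth_localizedModule_self] at h2
  have h3 := depth_le_supportDim (A := Localization.AtPrime p) (M := Localization.AtPrime p)
  rw [supportDim_localization_self] at h3
  have h4 : depth (Localization.AtPrime p) (Localization.AtPrime p) ≤ p.height := by
    exact_mod_cast h3
  refine { supportDim_eq_depth := ?_ }
  rw [supportDim_localization_self, le_antisymm h4 (h1.trans h2)]

/-- A Cohen–Macaulay domain modulo a nonzero principal prime ideal is Cohen–Macaulay. -/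
theorem isCohenMacaulayRing_quotient_span_singleton {R : Type u} [CommRing R] [IsDomain R]
    (hcm : IsCohenMacaulayRing R) (x : R) (hx : x ≠ 0) [hq : (Ideal.span {x}).IsPrime] :
    IsCohenMacaulayRing (R ⧸ Ideal.span {x}) := by
  haveI := hcm
  haveI : IsNoetherianRing R := inferInstance
  apply isCohenMacaulayRing_of_prime_le
  intro pb hpb
  haveI hp : (pb.comap (Ideal.Quotient.mk (Ideal.span {x}))).IsPrime := Ideal.comap_isPrime _ _
  have hqp : Ideal.span {x} ≤ pb.comap (Ideal.Quotient.mk (Ideal.span {x})) := by
    intro y hy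
    rw [Ideal.mem_comap, Ideal.Quotient.eq_zero_iff_mem.mpr hy]
    exact zero_mem _
  have hmap : (pb.comap (Ideal.Quotient.mk (Ideal.span {x}))).map
      (Ideal.Quotient.mk (Ideal.span {x})) = pb :=
    Ideal.map_comap_of_surjective _ Ideal.Quotient.mk_surjective _
  have hxp : x ∈ pb.comap (Ideal.Quotient.mk (Ideal.span {x})) :=
    hqp (Ideal.mem_span_singleton_self x)
  have hqne : Ideal.span {x} ≠ ⊥ := by
    rw [Ne, Ideal.span_singleton_eq_bot]
    exact hx
  have h1 : pb.height + 1 ≤ (pb.comap (Ideal.Quotient.mk (Ideal.span {x}))).height := by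
    conv_lhs => rw [← hmap]
    exact Groth.Agent.Lib.Helper4.DimFT1.height_map_quotient_add_one_le (Ideal.span {x}) _ hqp hqne
  have h2 : idealDepth (pb.comap (Ideal.Quotient.mk (Ideal.span {x}))) R =
      (pb.comap (Ideal.Quotient.mk (Ideal.span {x}))).height :=
    (isCohenMacaulayRing_iff_idealDepth_eq_height.mp hcm) _ hp.ne_top
  have hreg : IsSMulRegular R x := fun a b hab => mul_left_cancel₀ hx hab
  have hptop : (pb.comap (Ideal.Quotient.mk (Ideal.span {x}))) • (⊤ : Submodule R R) ≠ ⊤ := by
    rw [smul_eq_mul, Ideal.mul_top]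
    exact hp.ne_top
  have h3 : idealDepth (pb.comap (Ideal.Quotient.mk (Ideal.span {x}))) (QuotSMulTop x R) + 1 =
      idealDepth (pb.comap (Ideal.Quotient.mk (Ideal.span {x}))) R :=
    idealDepth_quotSMulTop_add_one hptop hxp hreg
  have hspan : x • (⊤ : Submodule R R) = Ideal.span {x} := by
    simp [← Submodule.ideal_span_singleton_smul]
  have h4 : idealDepth (pb.comap (Ideal.Quotient.mk (Ideal.span {x}))) (QuotSMulTop x R) =
      idealDepth (pb.comap (Ideal.Quotient.mk (Ideal.span {x}))) (R ⧸ Ideal.span {x}) :=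
    idealDepth_congr (Submodule.quotEquivOfEq _ _ hspan)
  have h5 := idealDepth_tower R (R ⧸ Ideal.span {x}) (pb.comap (Ideal.Quotient.mk (Ideal.span {x})))
    (R ⧸ Ideal.span {x})
  have hmap' : (pb.comap (Ideal.Quotient.mk (Ideal.span {x}))).map
      (algebraMap R (R ⧸ Ideal.span {x})) = pb := hmap
  rw [hmap'] at h5
  rw [← h5, ← h4]
  have h6 : pb.height + 1 ≤
      idealDepth (pb.comap (Ideal.Quotient.mk (Ideal.span {x}))) (QuotSMulTop x R) + 1 := by
    rw [h3, h2]
    exact h1
  exact (ENat.add_le_add_iff_right ENat.one_ne_top).mp h6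

/-- A retract of an integrally closed domain is integrally closed. -/
theorem isIntegrallyClosed_of_retract {A B : Type*} [CommRing A] [IsDomain A] [CommRing B]
    [IsDomain B] [IsIntegrallyClosed B] (ι : A →+* B) (ρ : B →+* A) (h : ∀ a, ρ (ι a) = a) :
    IsIntegrallyClosed A := by
  have hinj : Function.Injective ι := Function.LeftInverse.injective h
  rw [isIntegrallyClosed_iff (FractionRing A)]
  intro x hx
  let L := FractionRing B
  have hinj' : Function.Injective ((algebraMap B L).comp ι) :=
    (IsFractionRing.injective B L).comp hinj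
  let φ : FractionRing A →+* L := IsFractionRing.lift hinj'
  have hφ : ∀ a : A, φ (algebraMap A (FractionRing A) a) = algebraMap B L (ι a) := fun a =>
    IsFractionRing.lift_algebraMap hinj' a
  -- `φ x` is integral over `B`
  have hint : IsIntegral B (φ x) := by
    obtain ⟨p, hp, hpx⟩ := hx
    refine ⟨p.map ι, hp.map ι, ?_⟩
    rw [Polynomial.eval₂_map]
    have h1 : (algebraMap B L).comp ι = φ.comp (algebraMap A (FractionRing A)) := by
      ext a
      exact (hφ a).symm
    rw [h1, ← Polynomial.hom_eval₂, hpx, map_zero]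
  obtain ⟨b, hb⟩ := (isIntegrallyClosed_iff L).mp ‹IsIntegrallyClosed B› hint
  obtain ⟨a, c, hc, rfl⟩ := IsFractionRing.div_surjective (A := A) x
  have hc0 : algebraMap A (FractionRing A) c ≠ 0 := by
    intro h0
    have := (IsFractionRing.injective A (FractionRing A)) (h0.trans (map_zero _).symm)
    exact (nonZeroDivisors.ne_zero hc) this
  refine ⟨ρ b, ?_⟩
  -- `ι c * b = ι a`
  have h2 : ι c * b = ι a := by
    apply IsFractionRing.injective B L
    rw [map_mul, hb, ← hφ, ← hφ, ← map_mul, mul_div_cancel₀ _ hc0]
  have h3 : c * ρ b = a := by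
    have := congrArg ρ h2
    rwa [map_mul, h, h] at this
  rw [eq_div_iff hc0, ← map_mul, mul_comm, h3]

/-- Scaling the evaluation point by `u` scales a form of degree `k` by `u ^ k`. -/
theorem aeval_mul_const_of_isHomogeneous {σ R B : Type*} [CommSemiring R] [CommSemiring B]
    [Algebra R B] (a : σ → B) (u : B) (f : MvPolynomial σ R) (k : ℕ) (hf : f.IsHomogeneous k) :
    MvPolynomial.aeval (fun i => a i * u) f = MvPolynomial.aeval a f * u ^ k := by
  rw [MvPolynomial.aeval_def, MvPolynomial.aeval_def, MvPolynomial.eval₂_eq, MvPolynomial.eval₂_eq,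
    Finset.sum_mul]
  apply Finset.sum_congr rfl
  intro dd hd
  have hdeg : ∑ i ∈ dd.support, dd i = k := (hf.degree_eq_sum_deg_support hd).symm
  rw [mul_assoc]
  congr 1
  simp_rw [mul_pow]
  rw [Finset.prod_mul_distrib, Finset.prod_pow_eq_pow_sum, hdeg]

/-- Cohen–Macaulayness transfers along ring isomorphisms. -/
theorem isCohenMacaulayRing_of_ringEquiv {R R' : Type u} [CommRing R] [CommRing R']
    (e : R ≃+* R') (h : IsCohenMacaulayRing R) : IsCohenMacaulayRing R' := by
  haveI := h
  haveI : IsNoetherianRing R := inferInstance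
  haveI : IsNoetherianRing R' := isNoetherianRing_of_ringEquiv R e
  rw [isCohenMacaulayRing_iff_idealDepth_eq_height]
  intro a' ha'
  letI : Algebra R R' := e.toRingHom.toAlgebra
  have halg : ∀ x : R, algebraMap R R' x = e x := fun x => rfl
  let L : R ≃ₗ[R] R' :=
    { e.toAddEquiv with
      map_smul' := fun c x => by
        show e (c * x) = c • e x
        rw [Algebra.smul_def, halg, map_mul] }
  haveI : Module.Finite R R' := Module.Finite.equiv L
  have hane : a'.comap (e : R →+* R') ≠ ⊤ := by
    intro htop
    apply ha'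
    rw [Ideal.eq_top_iff_one] at htop ⊢
    rw [Ideal.mem_comap, map_one] at htop
    exact htop
  have h1 : idealDepth (a'.comap (e : R →+* R')) R = (a'.comap (e : R →+* R')).height :=
    (isCohenMacaulayRing_iff_idealDepth_eq_height.mp h) _ hane
  have h2 : (a'.comap (e : R →+* R')).height = a'.height := RingEquiv.height_comap e a'
  have h3 : idealDepth (a'.comap (e : R →+* R')) R = idealDepth (a'.comap (e : R →+* R')) R' :=
    idealDepth_congr L
  have h4 := idealDepth_tower R R' (a'.comap (e : R →+* R')) R'
  have h5 : (a'.comap (e : R →+* R')).map (algebraMap R R') = a' :=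
    Ideal.map_comap_of_surjective _ e.surjective a'
  rw [h5] at h4
  rw [← h4, ← h3, h1, h2]

theorem withBot_enat_add_one_cancel {x : WithBot ℕ∞} {c : ℕ}
    (h : x + 1 = ((c + 1 : ℕ) : WithBot ℕ∞)) : x = (c : WithBot ℕ∞) := by
  induction x with
  | bot =>
    rw [WithBot.bot_add] at h
    exact absurd h WithBot.bot_ne_coe
  | coe y =>
    induction y with
    | top =>
      exfalso
      have h' : ((⊤ : ℕ∞) : WithBot ℕ∞) + 1 = ((⊤ : ℕ∞) : WithBot ℕ∞) := rfl
      rw [h'] at h
      have : (⊤ : ℕ∞) = ((c + 1 : ℕ) : ℕ∞) := by exact_mod_cast h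
      exact ENat.top_ne_coe _ this
    | coe k =>
      have : (k : ℕ∞) + 1 = ((c + 1 : ℕ) : ℕ∞) := by exact_mod_cast h
      have hk : k + 1 = c + 1 := by exact_mod_cast this
      have : k = c := by omega
      rw [this]
      rfl

/-- Dimension of a finite type domain modulo a nonzero principal prime. -/
theorem ringKrullDim_quotient_span_singleton (k : Type u) [Field k] (A : Type u) [CommRing A]
    [IsDomain A] [Algebra k A] [Algebra.FiniteType k A] (x : A) (hx : x ≠ 0)
    [hq : (Ideal.span {x}).IsPrime] (c : ℕ) (hdim : ringKrullDim A = ((c + 1 : ℕ) : WithBot ℕ∞)) :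
    ringKrullDim (A ⧸ Ideal.span {x}) = (c : WithBot ℕ∞) := by
  haveI : IsNoetherianRing A := Algebra.FiniteType.isNoetherianRing k A
  have hnu : ¬ IsUnit x := fun hu => hq.ne_top (Ideal.span_singleton_eq_top.mpr hu)
  have h1 : (Ideal.span {x}).height = 1 :=
    Ideal.height_span_singleton_eq_one_of_mem_nonZeroDivisors (mem_nonZeroDivisors_of_ne_zero hx) hnu
  have h2 := Groth.Agent.Lib.Helper4.DimFT1.dim_quotient_of_height_eq_one k A (Ideal.span {x}) h1
  rw [hdim] at h2
  exact withBot_enat_add_one_cancel h2

end Groth.Agent.Lib.Helper6.GrCM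

end
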