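import Mathlib
import Groth.Prelude.Def_CAlg
import Groth.Agent.Lib.Helper6.GrCM.Descent

/-!
# Dehomogenization of a normal graded domain is normal (helper6)

`R' = K[x] ⧸ J` with `J` generated by forms, normal domain; then `R' ⧸ (x_{i₀} - 1)` (when a domain)
is a retract of `R'[1/x_{i₀}]`, hence normal.
-/

open scoped Classical
set_option linter.unusedSectionVars false
set_option autoImplicit false

universe u v

noncomputable section

namespace Groth.Agent.Lib.Helper6.GrCM

open MvPolynomial

variable {σ : Type v} {K : Type u} [CommRing K] (J : Ideal (MvPolynomial σ K)) (i₀ : σ)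

theorem isIntegrallyClosed_dehom
    (hJ : ∃ T : Set (MvPolynomial σ K), (∀ f ∈ T, ∃ k : ℕ, f.IsHomogeneous k) ∧ J = Ideal.span T)
    [IsDomain (MvPolynomial σ K ⧸ J)] [IsIntegrallyClosed (MvPolynomial σ K ⧸ J)]
    (hs : Ideal.Quotient.mk J (X i₀) ≠ 0)
    [IsDomain ((MvPolynomial σ K ⧸ J) ⧸ Ideal.span {Ideal.Quotient.mk J (X i₀ - 1)})] :
    IsIntegrallyClosed ((MvPolynomial σ K ⧸ J) ⧸ Ideal.span {Ideal.Quotient.mk J (X i₀ - 1)}) := by
  set s' := Ideal.Quotient.mk J (X i₀) with hs'
  haveI : IsDomain (Localization.Away s') := IsLocalization.isDomain_localization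
    (powers_le_nonZeroDivisors_of_noZeroDivisors hs)
  haveI : IsIntegrallyClosed (Localization.Away s') :=
    isIntegrallyClosed_of_isLocalization (Localization.Away s') (Submonoid.powers s')
      (powers_le_nonZeroDivisors_of_noZeroDivisors hs)
  set u : Localization.Away s' := IsLocalization.Away.invSelf s' with hu
  set a : σ → Localization.Away s' :=
    fun i => algebraMap (MvPolynomial σ K ⧸ J) (Localization.Away s') (Ideal.Quotient.mk J (X i))
    with ha
  set ι₀ : MvPolynomial σ K →ₐ[K] Localization.Away s' :=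
    MvPolynomial.aeval (fun i => a i * u) with hι₀
  have haeval : ∀ f, MvPolynomial.aeval a f =
      algebraMap (MvPolynomial σ K ⧸ J) (Localization.Away s') (Ideal.Quotient.mk J f) := by
    intro f
    have h : (MvPolynomial.aeval a : MvPolynomial σ K →ₐ[K] Localization.Away s') =
        ((IsScalarTower.toAlgHom K (MvPolynomial σ K ⧸ J) (Localization.Away s')).comp
          (Ideal.Quotient.mkₐ K J)) := by
      apply MvPolynomial.algHom_ext
      intro i
      rw [aeval_X]
      rfl
    rw [h]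
    rfl
  have h₀ : ∀ f ∈ J, ι₀.toRingHom f = 0 := by
    obtain ⟨T, hT, rfl⟩ := hJ
    intro f hf
    have hle : Ideal.span T ≤ RingHom.ker ι₀.toRingHom := by
      rw [Ideal.span_le]
      intro g hg
      obtain ⟨k, hk⟩ := hT g hg
      rw [SetLike.mem_coe, RingHom.mem_ker]
      show ι₀ g = 0
      rw [hι₀, aeval_mul_const_of_isHomogeneous a u g k hk, haeval,
        Ideal.Quotient.eq_zero_iff_mem.mpr (Ideal.subset_span hg), map_zero, zero_mul]
    exact hle hf
  set ι₁ : (MvPolynomial σ K ⧸ J) →+* Localization.Away s' :=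
    Ideal.Quotient.lift J ι₀.toRingHom h₀ with hι₁
  have h₁ : ∀ y ∈ Ideal.span {Ideal.Quotient.mk J (X i₀ - 1)}, ι₁ y = 0 := by
    intro y hy
    rw [Ideal.mem_span_singleton] at hy
    obtain ⟨z, rfl⟩ := hy
    have h : ι₁ (Ideal.Quotient.mk J (X i₀ - 1)) = 0 := by
      show ι₀ (X i₀ - 1) = 0
      rw [map_sub, map_one, hι₀, aeval_X]
      exact sub_eq_zero.mpr (IsLocalization.Away.mul_invSelf s')
    rw [map_mul, h, zero_mul]
  set ι : ((MvPolynomial σ K ⧸ J) ⧸ Ideal.span {Ideal.Quotient.mk J (X i₀ - 1)}) →+*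
      Localization.Away s' := Ideal.Quotient.lift _ ι₁ h₁ with hι
  have hone : Ideal.Quotient.mk (Ideal.span {Ideal.Quotient.mk J (X i₀ - 1)}) s' = 1 := by
    rw [← sub_eq_zero, ← map_one (Ideal.Quotient.mk (Ideal.span {Ideal.Quotient.mk J (X i₀ - 1)})),
      ← map_sub]
    apply Ideal.Quotient.eq_zero_iff_mem.mpr
    apply Ideal.subset_span
    rw [Set.mem_singleton_iff, hs', map_sub, map_one]
  have hunit : IsUnit (Ideal.Quotient.mk (Ideal.span {Ideal.Quotient.mk J (X i₀ - 1)}) s') := by
    rw [hone]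
    exact isUnit_one
  set ρ : Localization.Away s' →+*
      ((MvPolynomial σ K ⧸ J) ⧸ Ideal.span {Ideal.Quotient.mk J (X i₀ - 1)}) :=
    IsLocalization.Away.lift (S := Localization.Away s')
      (P := ((MvPolynomial σ K ⧸ J) ⧸ Ideal.span {Ideal.Quotient.mk J (X i₀ - 1)})) s'
      (g := Ideal.Quotient.mk (Ideal.span {Ideal.Quotient.mk J (X i₀ - 1)})) hunit with hρ
  have hρu : ρ u = 1 := by
    have h1 : ρ (algebraMap _ _ s') * ρ u = 1 := by
      rw [← map_mul, hu, IsLocalization.Away.mul_invSelf, map_one]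
    have h2 : ρ (algebraMap _ _ s') = 1 := by
      rw [hρ, IsLocalization.Away.lift_eq, hone]
    rw [h2] at h1
    exact (one_mul (ρ u)).symm.trans h1
  have hcomp : ρ.comp ι = RingHom.id _ := by
    apply Ideal.Quotient.ringHom_ext
    apply Ideal.Quotient.ringHom_ext
    apply MvPolynomial.ringHom_ext
    · intro c
      show ρ (ι₀ (C c)) = _
      rw [← MvPolynomial.algebraMap_eq, AlgHom.commutes,
        IsScalarTower.algebraMap_apply K (MvPolynomial σ K ⧸ J) (Localization.Away s'), hρ,
        IsLocalization.Away.lift_eq]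
      rfl
    · intro i
      show ρ (ι₀ (X i)) = _
      rw [hι₀, aeval_X, map_mul, hρu]
      have h3 : ρ (a i) = Ideal.Quotient.mk _ (Ideal.Quotient.mk J (X i)) := by
        rw [hρ, ha]
        exact IsLocalization.Away.lift_eq _ _ _
      rw [h3]
      exact mul_one (Ideal.Quotient.mk (Ideal.span {Ideal.Quotient.mk J (X i₀ - 1)})
        (Ideal.Quotient.mk J (X i)))
  exact isIntegrallyClosed_of_retract ι ρ (fun q => RingHom.congr_fun hcomp q)

end Groth.Agent.Lib.Helper6.GrCM

end
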