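import Mathlib
import Groth.Prelude.Def_CAlg
import Groth.Agent.Lib.Helper8.Depth27

/-!
# Depth of `R ⧸ (I ⊓ J)` (helper6)
-/

open scoped Classical
set_option linter.unusedSectionVars false
set_option autoImplicit false

universe u

noncomputable section

namespace Groth.Agent.Lib.Helper6.GrCM

open LocCoh Groth.Agent.Helper8.Depth

variable {R : Type u} [CommRing R] [IsNoetherianRing R] (𝔞 I J : Ideal R)

/-- The diagonal map `R ⧸ (I ⊓ J) → R ⧸ I × R ⧸ J`. -/
def diagMap : (R ⧸ (I ⊓ J)) →ₗ[R] (R ⧸ I) × (R ⧸ J) :=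
  LinearMap.prod (Submodule.mapQ (I ⊓ J) I LinearMap.id inf_le_left)
    (Submodule.mapQ (I ⊓ J) J LinearMap.id inf_le_right)

/-- The difference map `R ⧸ I × R ⧸ J → R ⧸ (I ⊔ J)`. -/
def diffMap : (R ⧸ I) × (R ⧸ J) →ₗ[R] (R ⧸ (I ⊔ J)) :=
  LinearMap.coprod (Submodule.mapQ I (I ⊔ J) LinearMap.id le_sup_left)
    (-(Submodule.mapQ J (I ⊔ J) LinearMap.id le_sup_right))

omit [IsNoetherianRing R] in
lemma diagMap_mk (x : R) : diagMap I J (Submodule.Quotient.mk x) =
    (Submodule.Quotient.mk x, Submodule.Quotient.mk x) := rfl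

omit [IsNoetherianRing R] in
lemma diffMap_mk (x y : R) : diffMap I J (Submodule.Quotient.mk x, Submodule.Quotient.mk y) =
    Submodule.Quotient.mk (x - y) := by
  unfold diffMap
  rw [LinearMap.coprod_apply, LinearMap.neg_apply]
  show Submodule.Quotient.mk x + -Submodule.Quotient.mk y = _
  rw [← sub_eq_add_neg, ← Submodule.Quotient.mk_sub]

omit [IsNoetherianRing R] in
lemma diagMap_injective : Function.Injective (diagMap I J) := by
  rw [← LinearMap.ker_eq_bot, Submodule.eq_bot_iff]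
  intro x hx
  obtain ⟨s, rfl⟩ := Submodule.Quotient.mk_surjective _ x
  rw [LinearMap.mem_ker, diagMap_mk, Prod.mk_eq_zero, Submodule.Quotient.mk_eq_zero,
    Submodule.Quotient.mk_eq_zero] at hx
  rw [Submodule.Quotient.mk_eq_zero]
  exact ⟨hx.1, hx.2⟩

omit [IsNoetherianRing R] in
lemma diffMap_surjective : Function.Surjective (diffMap I J) := by
  intro y
  obtain ⟨s, rfl⟩ := Submodule.Quotient.mk_surjective _ y
  refine ⟨(Submodule.Quotient.mk s, Submodule.Quotient.mk 0), ?_⟩
  rw [diffMap_mk, sub_zero]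

omit [IsNoetherianRing R] in
lemma exact_diag_diff : Function.Exact (diagMap I J) (diffMap I J) := by
  intro y
  obtain ⟨a, b⟩ := y
  obtain ⟨x, rfl⟩ := Submodule.Quotient.mk_surjective _ a
  obtain ⟨z, rfl⟩ := Submodule.Quotient.mk_surjective _ b
  rw [diffMap_mk, Submodule.Quotient.mk_eq_zero]
  constructor
  · intro h
    obtain ⟨i, hi, j, hj, hij⟩ := Submodule.mem_sup.mp h
    refine ⟨Submodule.Quotient.mk (x - i), ?_⟩
    rw [diagMap_mk, Prod.mk.injEq]
    constructor
    · rw [Submodule.Quotient.eq]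
      have : x - i - x = -i := by ring
      rw [this]
      exact I.neg_mem hi
    · rw [Submodule.Quotient.eq]
      have : x - i - z = j := by
        have h1 : x - i - z = (x - z) - i := by ring
        rw [h1, ← hij]; ring
      rw [this]
      exact hj
  · rintro ⟨w, hw⟩
    obtain ⟨s, rfl⟩ := Submodule.Quotient.mk_surjective _ w
    rw [diagMap_mk, Prod.mk.injEq, Submodule.Quotient.eq, Submodule.Quotient.eq] at hw
    have : x - z = -(s - x) + (s - z) := by ring
    rw [this]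
    exact Submodule.add_mem_sup (I.neg_mem hw.1) hw.2

/-- Depth lemma for the Mayer–Vietoris sequence of two ideals. -/
theorem idealDepth_quotient_inf :
    min (min (idealDepth 𝔞 (R ⧸ I)) (idealDepth 𝔞 (R ⧸ J))) (idealDepth 𝔞 (R ⧸ (I ⊔ J)) + 1) ≤
      idealDepth 𝔞 (R ⧸ (I ⊓ J)) := by
  have h1 : min (idealDepth 𝔞 (R ⧸ I)) (idealDepth 𝔞 (R ⧸ J)) ≤
      idealDepth 𝔞 ((R ⧸ I) × (R ⧸ J)) := by
    refine idealDepth_mid_ge 𝔞 (LinearMap.inl R (R ⧸ I) (R ⧸ J)) (LinearMap.snd R (R ⧸ I) (R ⧸ J))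
      LinearMap.inl_injective LinearMap.snd_surjective ?_
    intro y
    constructor
    · intro h
      exact ⟨y.1, Prod.ext rfl h.symm⟩
    · rintro ⟨a, rfl⟩
      rfl
  have h2 := idealDepth_left_ge 𝔞 (diagMap I J) (diffMap I J) (diagMap_injective I J)
    (diffMap_surjective I J) (exact_diag_diff I J)
  refine le_trans ?_ h2
  exact min_le_min h1 le_rfl

end Groth.Agent.Lib.Helper6.GrCM

end
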