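import Mathlib
import Groth.Prelude.Def_CAlg
import Groth.Agent.Lib.Helper6.GrCM.SES
import Groth.Agent.Lib.Helper8.Depth20
import Groth.Agent.Lib.Helper4.DimFT2

/-!
# Noetherian graded algebras with degree zero part a field (helper6)

* universe-polymorphic dimension theory of finite type algebras (after helper4's `DimFT1/2`),
* the irrelevant ideal is maximal, contains all proper homogeneous ideals and all minimal primes of
  homogeneous ideals,
* a Noetherian graded algebra with `A₀ = K` is of finite type over `K`,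
* depth of `A ⧸ I` along the irrelevant ideal for a Cohen–Macaulay quotient,
* the Cohen–Macaulay property of `A ⧸ (I ⊓ J)` at the irrelevant ideal.
-/

open scoped Classical
set_option linter.unusedSectionVars false
set_option autoImplicit false

universe u v

noncomputable section

namespace Groth.Agent.Lib.Helper6.GrCM

open LocCoh Groth.Agent.Helper8.Depth

section DimPoly

variable (k : Type u) [Field k] (A : Type v) [CommRing A] [Algebra k A] [Algebra.FiniteType k A]

theorem exists_noether_poly [IsDomain A] : ∃ (s : ℕ) (_ : Algebra (MvPolynomial (Fin s) k) A),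
    Module.Finite (MvPolynomial (Fin s) k) A ∧
    Function.Injective (algebraMap (MvPolynomial (Fin s) k) A) ∧
    ringKrullDim A = (s : WithBot ℕ∞) := by
  obtain ⟨s, g, hinj, hfin⟩ := exists_finite_inj_algHom_of_fg k A
  letI := g.toRingHom.toAlgebra
  haveI : Module.Finite (MvPolynomial (Fin s) k) A := hfin
  haveI : Algebra.IsIntegral (MvPolynomial (Fin s) k) A := Algebra.IsIntegral.of_finite _ _
  refine ⟨s, g.toRingHom.toAlgebra, hfin, hinj, ?_⟩
  rw [Groth.Agent.Lib.Helper4.DimFT1.ringKrullDim_eq_of_isIntegral_of_injective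
      (MvPolynomial (Fin s) k) A hinj,
    MvPolynomial.ringKrullDim_of_isNoetherianRing, ringKrullDim_eq_zero_of_field, zero_add,
    Nat.card_fin]

include k in
theorem height_eq_dim_of_isMaximal_poly [IsDomain A] (m : Ideal A) [hm : m.IsMaximal] :
    (m.height : WithBot ℕ∞) = ringKrullDim A := by
  obtain ⟨s, alg, hfin, hinj, hdim⟩ := exists_noether_poly k A
  letI := alg
  haveI := hfin
  haveI : Algebra.IsIntegral (MvPolynomial (Fin s) k) A := Algebra.IsIntegral.of_finite _ _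
  haveI : FaithfulSMul (MvPolynomial (Fin s) k) A :=
    (faithfulSMul_iff_algebraMap_injective _ _).mpr hinj
  haveI : (m.under (MvPolynomial (Fin s) k)).IsMaximal :=
    Ideal.isMaximal_comap_of_isIntegral_of_isMaximal m
  rw [Groth.Agent.Lib.Helper4.DimFT1.height_eq_of_isIntegral_of_hasGoingDown
      (MvPolynomial (Fin s) k) m,
    Groth.Agent.Lib.Helper4.DimFT1.mvPolynomial_height_of_isMaximal k s _, hdim]
  rfl

include k in
theorem height_map_eq_dim_of_isMaximal_poly (P m : Ideal A) [hP : P.IsPrime] [hm : m.IsMaximal]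
    (h : P ≤ m) :
    ((m.map (Ideal.Quotient.mk P)).height : WithBot ℕ∞) = ringKrullDim (A ⧸ P) := by
  haveI : (m.map (Ideal.Quotient.mk P)).IsMaximal :=
    Ideal.IsMaximal.map_of_surjective_of_ker_le Ideal.Quotient.mk_surjective
      (by rw [Ideal.mk_ker]; exact h)
  haveI : Algebra.FiniteType k (A ⧸ P) :=
    Algebra.FiniteType.of_surjective (Ideal.Quotient.mkₐ k P) (Ideal.Quotient.mkₐ_surjective k P)
  exact height_eq_dim_of_isMaximal_poly k (A ⧸ P) _

include k in
/-- Dimension of a finite type algebra all of whose minimal primes lie in a given maximal ideal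
(universe polymorphic version). -/
theorem ringKrullDim_le_height_of_minimalPrimes_le_poly (m : Ideal A) [hm : m.IsMaximal]
    (h : ∀ P ∈ minimalPrimes A, P ≤ m) : ringKrullDim A ≤ (m.height : WithBot ℕ∞) := by
  haveI : IsNoetherianRing A := Algebra.FiniteType.isNoetherianRing k A
  rw [ringKrullDim_le_iff_isMaximal_height_le]
  intro n hn
  haveI := hn
  haveI := hn.isPrime
  haveI := hm.isPrime
  obtain ⟨P, hPmin, hPn, hht⟩ := Groth.Agent.Lib.Helper4.DimFT2.exists_minimalPrimes_height_eq n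
  haveI : P.IsPrime := hPmin.1.1
  have h1 := height_map_eq_dim_of_isMaximal_poly k A P n hPn
  have h2 := height_map_eq_dim_of_isMaximal_poly k A P m (h P hPmin)
  have h3 := Groth.Agent.Lib.Helper4.DimFT2.height_map_mk_le P m (h P hPmin)
  rw [← hht, h1, ← h2]
  exact_mod_cast h3

end DimPoly

section Graded

variable {K : Type u} [Field K] {A : Type v} [CommRing A] [Algebra K A]
  (𝒜 : ℕ → Submodule K A) [GradedAlgebra 𝒜]
  (h0 : ∀ a ∈ 𝒜 0, ∃ c : K, algebraMap K A c = a)

/-- The irrelevant ideal as a plain ideal. -/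
abbrev irrI : Ideal A := (HomogeneousIdeal.irrelevant 𝒜).toIdeal

theorem mem_irrI (a : A) : a ∈ irrI 𝒜 ↔ (DirectSum.decompose 𝒜 a 0 : A) = 0 := Iff.rfl

theorem decompose_zero_mem (a : A) : (DirectSum.decompose 𝒜 a 0 : A) ∈ 𝒜 0 :=
  (DirectSum.decompose 𝒜 a 0).2

theorem sub_decompose_zero_mem_irrI (a : A) : a - (DirectSum.decompose 𝒜 a 0 : A) ∈ irrI 𝒜 := by
  rw [mem_irrI, DirectSum.decompose_sub, DirectSum.sub_apply, AddSubgroupClass.coe_sub,
    DirectSum.decompose_of_mem_same 𝒜 (decompose_zero_mem 𝒜 a), sub_self]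

include h0 in
theorem irrI_isMaximal [Nontrivial A] : (irrI 𝒜).IsMaximal := by
  rw [Ideal.isMaximal_iff]
  refine ⟨?_, ?_⟩
  · intro h
    rw [mem_irrI, DirectSum.decompose_of_mem_same 𝒜 (SetLike.GradedOne.one_mem)] at h
    exact one_ne_zero h
  · intro J x hMJ hxM hxJ
    have h1 : (DirectSum.decompose 𝒜 x 0 : A) ∈ J := by
      have := J.sub_mem hxJ (hMJ (sub_decompose_zero_mem_irrI 𝒜 x))
      rwa [sub_sub_cancel] at this
    obtain ⟨c, hc⟩ := h0 _ (decompose_zero_mem 𝒜 x)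
    have hc0 : c ≠ 0 := by
      rintro rfl
      rw [map_zero] at hc
      exact hxM ((mem_irrI 𝒜 x).mpr hc.symm)
    have h2 : algebraMap K A c⁻¹ * (DirectSum.decompose 𝒜 x 0 : A) = 1 := by
      rw [← hc, ← map_mul, inv_mul_cancel₀ hc0, map_one]
    rw [← h2]
    exact J.mul_mem_left _ h1

include h0 in
theorem le_irrI_of_isHomogeneous {I : Ideal A} (hI : I.IsHomogeneous 𝒜) (hne : I ≠ ⊤) :
    I ≤ irrI 𝒜 := by
  intro a ha
  have h1 : (DirectSum.decompose 𝒜 a 0 : A) ∈ I := hI 0 ha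
  obtain ⟨c, hc⟩ := h0 _ (decompose_zero_mem 𝒜 a)
  rw [mem_irrI]
  by_contra hne0
  have hc0 : c ≠ 0 := by
    rintro rfl
    rw [map_zero] at hc
    exact hne0 hc.symm
  apply hne
  rw [Ideal.eq_top_iff_one]
  have h2 : algebraMap K A c⁻¹ * (DirectSum.decompose 𝒜 a 0 : A) = 1 := by
    rw [← hc, ← map_mul, inv_mul_cancel₀ hc0, map_one]
  rw [← h2]
  exact I.mul_mem_left _ h1

include h0 in
/-- Minimal primes of a homogeneous ideal lie in the irrelevant ideal. -/
theorem minimalPrimes_le_irrI {I : Ideal A} (hI : I.IsHomogeneous 𝒜) {Q : Ideal A}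
    (hQ : Q ∈ I.minimalPrimes) : Q ≤ irrI 𝒜 := by
  haveI hQp : Q.IsPrime := hQ.1.1
  have hcp : (Q.homogeneousCore 𝒜).toIdeal.IsPrime := Ideal.IsPrime.homogeneousCore hQp
  have hIc : I ≤ (Q.homogeneousCore 𝒜).toIdeal := by
    have h1 := Ideal.homogeneousCore_mono 𝒜 hQ.1.2
    have h2 := hI.toIdeal_homogeneousCore_eq_self
    rw [← h2]
    exact h1
  have hcQ : (Q.homogeneousCore 𝒜).toIdeal ≤ Q := Ideal.toIdeal_homogeneousCore_le _ Q
  have hQc : Q ≤ (Q.homogeneousCore 𝒜).toIdeal := hQ.2 ⟨hcp, hIc⟩ hcQ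
  have hQhom : Q.IsHomogeneous 𝒜 := by
    have : Q = (Q.homogeneousCore 𝒜).toIdeal := le_antisymm hQc hcQ
    rw [this]
    exact (Q.homogeneousCore 𝒜).isHomogeneous
  exact le_irrI_of_isHomogeneous 𝒜 h0 hQhom hQp.ne_top

/-- Homogeneous generators of positive degree of the irrelevant ideal. -/
theorem exists_homogeneous_generators [IsNoetherianRing A] :
    ∃ G : Finset A, (∀ g ∈ G, ∃ i : ℕ, 0 < i ∧ g ∈ 𝒜 i) ∧ Ideal.span (G : Set A) = irrI 𝒜 := by
  obtain ⟨F, hF⟩ : (irrI 𝒜).FG := IsNoetherian.noetherian _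
  refine ⟨F.biUnion (fun f => (DirectSum.decompose 𝒜 f).support.image
    (fun i => (DirectSum.decompose 𝒜 f i : A))), ?_, ?_⟩
  · intro g hg
    rw [Finset.mem_biUnion] at hg
    obtain ⟨f, hf, hg⟩ := hg
    rw [Finset.mem_image] at hg
    obtain ⟨i, hi, rfl⟩ := hg
    refine ⟨i, ?_, (DirectSum.decompose 𝒜 f i).2⟩
    rw [Nat.pos_iff_ne_zero]
    rintro rfl
    have hfM : f ∈ irrI 𝒜 := by
      rw [← hF]
      exact Ideal.subset_span hf
    rw [mem_irrI] at hfM
    rw [DFinsupp.mem_support_iff] at hi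
    apply hi
    exact Subtype.ext hfM
  · apply le_antisymm
    · rw [Ideal.span_le]
      intro g hg
      rw [Finset.mem_coe, Finset.mem_biUnion] at hg
      obtain ⟨f, hf, hg⟩ := hg
      rw [Finset.mem_image] at hg
      obtain ⟨i, hi, rfl⟩ := hg
      have hfM : f ∈ irrI 𝒜 := by
        rw [← hF]
        exact Ideal.subset_span hf
      exact (HomogeneousIdeal.irrelevant 𝒜).isHomogeneous i hfM
    · rw [← hF, Ideal.span_le]
      intro f hf
      rw [SetLike.mem_coe, ← DirectSum.sum_support_decompose 𝒜 f]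
      refine Ideal.sum_mem _ fun i hi => Ideal.subset_span ?_
      rw [Finset.mem_coe, Finset.mem_biUnion]
      exact ⟨f, hf, Finset.mem_image.mpr ⟨i, hi, rfl⟩⟩

include h0 in
/-- A Noetherian graded algebra with degree zero part the base field is of finite type. -/
theorem finiteType_of_isNoetherianRing [IsNoetherianRing A] : Algebra.FiniteType K A := by
  obtain ⟨G, hG, hspan⟩ := exists_homogeneous_generators 𝒜
  choose! deg hdeg using hG
  refine ⟨⟨G, ?_⟩⟩
  have key : ∀ n : ℕ, ∀ a ∈ 𝒜 n, a ∈ Algebra.adjoin K (G : Set A) := by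
    intro n
    induction n using Nat.strong_induction_on with
    | _ n ih =>
      intro a ha
      rcases Nat.eq_zero_or_pos n with rfl | hn
      · obtain ⟨c, rfl⟩ := h0 a ha
        exact Subalgebra.algebraMap_mem _ c
      · have haM : a ∈ Ideal.span (G : Set A) := by
          rw [hspan]
          exact HomogeneousIdeal.mem_irrelevant_of_mem 𝒜 hn ha
        rw [Ideal.span, Submodule.mem_span_finset] at haM
        obtain ⟨c, -, hc⟩ := haM
        have h1 : a = ∑ g ∈ G, (DirectSum.decompose 𝒜 (c g * g) n : A) := by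
          conv_lhs => rw [← DirectSum.decompose_of_mem_same 𝒜 ha, ← hc]
          rw [DirectSum.decompose_sum, DFinsupp.finset_sum_apply, AddSubmonoidClass.coe_finset_sum]
          rfl
        rw [h1]
        refine Subalgebra.sum_mem _ fun g hg => ?_
        by_cases hle : deg g ≤ n
        · rw [DirectSum.coe_decompose_mul_of_right_mem_of_le 𝒜 (hdeg g hg).2 hle]
          refine Subalgebra.mul_mem _ ?_ (Algebra.subset_adjoin hg)
          exact ih (n - deg g) (Nat.sub_lt hn (hdeg g hg).1) _ (DirectSum.decompose 𝒜 (c g) _).2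
        · rw [DirectSum.coe_decompose_mul_of_right_mem_of_not_le 𝒜 (hdeg g hg).2 hle]
          exact Subalgebra.zero_mem _
  rw [eq_top_iff]
  intro a _
  rw [← DirectSum.sum_support_decompose 𝒜 a]
  exact Subalgebra.sum_mem _ fun i _ => key i _ (DirectSum.decompose 𝒜 a i).2

end Graded

section Main

/-- Krull dimension of a quotient by an intersection of two ideals. -/
theorem ringKrullDim_quotient_inf_le {S : Type*} [CommRing S] (I J : Ideal S) (m : WithBot ℕ∞)
    (hI : ringKrullDim (S ⧸ I) ≤ m) (hJ : ringKrullDim (S ⧸ J) ≤ m) :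
    ringKrullDim (S ⧸ (I ⊓ J)) ≤ m := by
  rw [ringKrullDim_quotient]
  unfold Order.krullDim
  apply iSup_le
  intro l
  have hhead : l.head.1 ∈ PrimeSpectrum.zeroLocus (R := S) (I ⊓ J : Ideal S) := l.head.2
  rw [PrimeSpectrum.mem_zeroLocus, SetLike.coe_subset_coe] at hhead
  have key : ∀ I' : Ideal S, ringKrullDim (S ⧸ I') ≤ m → I' ≤ l.head.1.asIdeal →
      (l.length : WithBot ℕ∞) ≤ m := by
    intro I' hI' hjle
    have hmem : ∀ i, (l i).1 ∈ PrimeSpectrum.zeroLocus (R := S) (I' : Ideal S) := by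
      intro i
      rw [PrimeSpectrum.mem_zeroLocus, SetLike.coe_subset_coe]
      have h1 : l.head ≤ l i := LTSeries.head_le l i
      have h2 : l.head.1.asIdeal ≤ (l i).1.asIdeal := h1
      exact hjle.trans h2
    let l' : LTSeries (PrimeSpectrum.zeroLocus (R := S) (I' : Ideal S)) :=
      LTSeries.mk l.length (fun i => ⟨(l i).1, hmem i⟩) (fun a b hab => l.strictMono hab)
    calc (l.length : WithBot ℕ∞) = l'.length := rfl
      _ ≤ Order.krullDim _ := Order.LTSeries.length_le_krullDim l'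
      _ = ringKrullDim (S ⧸ I') := (ringKrullDim_quotient _).symm
      _ ≤ m := hI'
  rcases (Ideal.IsPrime.inf_le l.head.1.2).mp hhead with h | h
  · exact key I hI h
  · exact key J hJ h

variable {K : Type u} [Field K] {A : Type v} [CommRing A] [Algebra K A] [IsNoetherianRing A]
  (𝒜 : ℕ → Submodule K A) [GradedAlgebra 𝒜]
  (h0 : ∀ a ∈ 𝒜 0, ∃ c : K, algebraMap K A c = a)

include h0 in
theorem irrI_map_isMaximal (I : Ideal A) (hI : I.IsHomogeneous 𝒜) (hne : I ≠ ⊤) :
    ((irrI 𝒜).map (Ideal.Quotient.mk I)).IsMaximal := by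
  haveI : Nontrivial A := by
    by_contra h
    rw [not_nontrivial_iff_subsingleton] at h
    exact hne (Subsingleton.elim _ _)
  haveI hmaxM := irrI_isMaximal 𝒜 h0
  have hle := le_irrI_of_isHomogeneous 𝒜 h0 hI hne
  exact Ideal.IsMaximal.map_of_surjective_of_ker_le Ideal.Quotient.mk_surjective
    (by rw [Ideal.mk_ker]; exact hle)

include h0 in
/-- For a proper homogeneous ideal, the height of the image of the irrelevant ideal in `A ⧸ I` is
the dimension of `A ⧸ I`. -/
theorem height_irrI_map_eq (I : Ideal A) (hI : I.IsHomogeneous 𝒜) (hne : I ≠ ⊤) :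
    (((irrI 𝒜).map (Ideal.Quotient.mk I)).height : WithBot ℕ∞) = ringKrullDim (A ⧸ I) := by
  haveI hmax := irrI_map_isMaximal 𝒜 h0 I hI hne
  haveI : Algebra.FiniteType K A := finiteType_of_isNoetherianRing 𝒜 h0
  haveI : Algebra.FiniteType K (A ⧸ I) :=
    Algebra.FiniteType.of_surjective (Ideal.Quotient.mkₐ K I) (Ideal.Quotient.mkₐ_surjective K I)
  apply le_antisymm
  · exact Ideal.height_le_ringKrullDim_of_ne_top hmax.ne_top
  · apply ringKrullDim_le_height_of_minimalPrimes_le_poly K (A ⧸ I)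
    intro P hP
    have hsurj : Function.Surjective (Ideal.Quotient.mk I) := Ideal.Quotient.mk_surjective
    have h1 : P.comap (Ideal.Quotient.mk I) ∈
        ((⊥ : Ideal (A ⧸ I)).comap (Ideal.Quotient.mk I)).minimalPrimes := by
      rw [Ideal.comap_minimalPrimes_eq_of_surjective hsurj]
      exact ⟨P, hP, rfl⟩
    rw [← RingHom.ker_eq_comap_bot, Ideal.mk_ker] at h1
    have h2 := minimalPrimes_le_irrI 𝒜 h0 hI h1
    have h3 := Ideal.map_mono (f := Ideal.Quotient.mk I) h2
    rwa [Ideal.map_comap_of_surjective _ hsurj] at h3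

include h0 in
/-- Depth along the irrelevant ideal of a Cohen–Macaulay homogeneous quotient. -/
theorem idealDepth_irrI_of_cm (I : Ideal A) (hI : I.IsHomogeneous 𝒜) (hne : I ≠ ⊤)
    (hcm : IsCohenMacaulayRing (A ⧸ I)) (d : ℕ) (hd : ringKrullDim (A ⧸ I) = (d : WithBot ℕ∞)) :
    idealDepth (irrI 𝒜) (A ⧸ I) = d := by
  have hmax := irrI_map_isMaximal 𝒜 h0 I hI hne
  have h1 := idealDepth_tower A (A ⧸ I) (irrI 𝒜) (A ⧸ I)
  have hmap : (irrI 𝒜).map (algebraMap A (A ⧸ I)) = (irrI 𝒜).map (Ideal.Quotient.mk I) := rfl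
  rw [hmap] at h1
  rw [h1, (isCohenMacaulayRing_iff_idealDepth_eq_height.mp hcm) _ hmax.ne_top]
  have := height_irrI_map_eq 𝒜 h0 I hI hne
  rw [hd] at this
  exact_mod_cast this

omit [IsNoetherianRing A] in
theorem ne_top_of_dim {I : Ideal A} {d : ℕ} (hd : ringKrullDim (A ⧸ I) = (d : WithBot ℕ∞)) :
    I ≠ ⊤ := by
  rintro rfl
  haveI : Subsingleton (A ⧸ (⊤ : Ideal A)) := Ideal.Quotient.subsingleton_iff.mpr rfl
  rw [ringKrullDim_eq_bot_of_subsingleton] at hd
  exact WithBot.bot_ne_coe hd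

include h0 in
/-- **Cohen–Macaulayness of `A ⧸ (I ⊓ J)` at the irrelevant ideal.** -/
theorem cm_at_irrelevant_of_inf (I J : Ideal A) (hI : I.IsHomogeneous 𝒜) (hJ : J.IsHomogeneous 𝒜)
    (e : ℕ) (he : 1 ≤ e)
    (hIcm : IsCohenMacaulayRing (A ⧸ I)) (hJcm : IsCohenMacaulayRing (A ⧸ J))
    (hIJcm : IsCohenMacaulayRing (A ⧸ (I ⊔ J)))
    (hIdim : ringKrullDim (A ⧸ I) = (e : WithBot ℕ∞))
    (hJdim : ringKrullDim (A ⧸ J) = (e : WithBot ℕ∞))
    (hIJdim : ringKrullDim (A ⧸ (I ⊔ J)) = ((e - 1 : ℕ) : WithBot ℕ∞))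
    [hm : ((irrI 𝒜).map (Ideal.Quotient.mk (I ⊓ J))).IsPrime] :
    IsCohenMacaulayLocalRing (Localization.AtPrime ((irrI 𝒜).map (Ideal.Quotient.mk (I ⊓ J)))) ∧
      ringKrullDim (Localization.AtPrime ((irrI 𝒜).map (Ideal.Quotient.mk (I ⊓ J)))) =
        (e : WithBot ℕ∞) := by
  have d1 := idealDepth_irrI_of_cm 𝒜 h0 I hI (ne_top_of_dim hIdim) hIcm e hIdim
  have d2 := idealDepth_irrI_of_cm 𝒜 h0 J hJ (ne_top_of_dim hJdim) hJcm e hJdim
  have d3 := idealDepth_irrI_of_cm 𝒜 h0 (I ⊔ J) (hI.sup hJ) (ne_top_of_dim hIJdim) hIJcm (e - 1)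
    hIJdim
  have hdepth := idealDepth_quotient_inf (irrI 𝒜) I J
  rw [d1, d2, d3] at hdepth
  have hdepth' : (e : ℕ∞) ≤ idealDepth (irrI 𝒜) (A ⧸ (I ⊓ J)) := by
    refine le_trans ?_ hdepth
    have : ((e - 1 : ℕ) : ℕ∞) + 1 = e := by exact_mod_cast Nat.sub_add_cancel he
    rw [min_self, this, min_self]
  have h1 := idealDepth_tower A (A ⧸ (I ⊓ J)) (irrI 𝒜) (A ⧸ (I ⊓ J))
  have hmap : (irrI 𝒜).map (algebraMap A (A ⧸ (I ⊓ J))) =
      (irrI 𝒜).map (Ideal.Quotient.mk (I ⊓ J)) := rfl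
  rw [hmap] at h1
  have h2 : idealDepth ((irrI 𝒜).map (Ideal.Quotient.mk (I ⊓ J))) (A ⧸ (I ⊓ J)) ≤
      depth (Localization.AtPrime ((irrI 𝒜).map (Ideal.Quotient.mk (I ⊓ J))))
        (LocalizedModule ((irrI 𝒜).map (Ideal.Quotient.mk (I ⊓ J))).primeCompl (A ⧸ (I ⊓ J))) := by
    rw [idealDepth_eq_iInf_depth_localization]
    exact iInf₂_le (⟨(irrI 𝒜).map (Ideal.Quotient.mk (I ⊓ J)), hm⟩ :
      PrimeSpectrum (A ⧸ (I ⊓ J))) le_rfl
  rw [depth_localizedModule_self] at h2
  have h3 := depth_le_supportDim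
    (A := Localization.AtPrime ((irrI 𝒜).map (Ideal.Quotient.mk (I ⊓ J))))
    (M := Localization.AtPrime ((irrI 𝒜).map (Ideal.Quotient.mk (I ⊓ J))))
  rw [supportDim_localization_self] at h3
  have h4 : (((irrI 𝒜).map (Ideal.Quotient.mk (I ⊓ J))).height : WithBot ℕ∞) ≤
      ringKrullDim (A ⧸ (I ⊓ J)) := Ideal.height_le_ringKrullDim_of_ne_top hm.ne_top
  have h5 : ringKrullDim (A ⧸ (I ⊓ J)) ≤ (e : WithBot ℕ∞) :=
    ringKrullDim_quotient_inf_le I J _ hIdim.le hJdim.le
  have h6 : ((irrI 𝒜).map (Ideal.Quotient.mk (I ⊓ J))).height ≤ (e : ℕ∞) := by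
    have := h4.trans h5
    exact_mod_cast this
  have h7 : depth (Localization.AtPrime ((irrI 𝒜).map (Ideal.Quotient.mk (I ⊓ J))))
      (Localization.AtPrime ((irrI 𝒜).map (Ideal.Quotient.mk (I ⊓ J)))) ≤
      ((irrI 𝒜).map (Ideal.Quotient.mk (I ⊓ J))).height := by
    exact_mod_cast h3
  have h8 : (e : ℕ∞) ≤ depth (Localization.AtPrime ((irrI 𝒜).map (Ideal.Quotient.mk (I ⊓ J))))
      (Localization.AtPrime ((irrI 𝒜).map (Ideal.Quotient.mk (I ⊓ J)))) := by
    rw [h1] at hdepth'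
    exact hdepth'.trans h2
  have hht : ((irrI 𝒜).map (Ideal.Quotient.mk (I ⊓ J))).height = (e : ℕ∞) :=
    le_antisymm h6 (h8.trans h7)
  have hdep : depth (Localization.AtPrime ((irrI 𝒜).map (Ideal.Quotient.mk (I ⊓ J))))
      (Localization.AtPrime ((irrI 𝒜).map (Ideal.Quotient.mk (I ⊓ J)))) = (e : ℕ∞) :=
    le_antisymm (h7.trans h6) h8
  refine ⟨{ supportDim_eq_depth := ?_ }, ?_⟩
  · rw [supportDim_localization_self, hht, hdep]
  · rw [IsLocalization.AtPrime.ringKrullDim_eq_height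
      ((irrI 𝒜).map (Ideal.Quotient.mk (I ⊓ J)))
      (Localization.AtPrime ((irrI 𝒜).map (Ideal.Quotient.mk (I ⊓ J)))), hht]
    rfl

end Main

end Groth.Agent.Lib.Helper6.GrCM

end
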